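/-
Cancellation modulo a homogeneous prime and powers of a degree one element not in it.
-/
import Mathlib

set_option autoImplicit false
universe u
open DirectSum

namespace Groth.Grauert

variable {R σ : Type u} [CommRing R] [SetLike σ R] [AddSubgroupClass σ R] (𝒜 : ℕ → σ) [GradedRing 𝒜]

/-- The ideal spanned by the homogeneous elements of degree larger than `n`. -/
def highIdeal (n : ℕ) : Ideal R := Ideal.span {a | ∃ i, n < i ∧ a ∈ 𝒜 i}

theorem decompose_eq_zero_of_mem_highIdeal {n : ℕ} {a : R} (ha : a ∈ highIdeal 𝒜 n) {j : ℕ} (hj : j ≤ n) :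
    (decompose 𝒜 a j : R) = 0 := by
  induction ha using Submodule.span_induction generalizing j with
  | mem x hx =>
    obtain ⟨i, hi, hx⟩ := hx
    exact decompose_of_mem_ne 𝒜 hx (by omega)
  | zero => simp
  | add x y _ _ hx hy => simp [hx hj, hy hj]
  | smul r x _ hx =>
    classical
    rw [smul_eq_mul, decompose_mul, coe_mul_apply]
    refine Finset.sum_eq_zero fun c hc => ?_
    rw [hx (j := c.2) (by have := (Finset.mem_filter.1 hc).2; omega), mul_zero]

variable {P : Ideal R} (hP : P.IsHomogeneous 𝒜) [P.IsPrime] {g : R} (hg : g ∈ 𝒜 1) (hgP : g ∉ P)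

include hg in
theorem decompose_g_mul_zero (r : R) : (decompose 𝒜 (g * r) 0 : R) = 0 :=
  coe_decompose_mul_of_left_mem_of_not_le 𝒜 hg (by omega)

include hg in
theorem pow_mul_decompose (n : ℕ) (w : R) : (decompose 𝒜 (g ^ n * w) n : R) = g ^ n * decompose 𝒜 w 0 := by
  rw [coe_decompose_mul_of_left_mem_of_le 𝒜 (by simpa using SetLike.pow_mem_graded n hg) le_rfl, Nat.sub_self]

variable (hI : ∀ a : R, a - decompose 𝒜 a 0 ∈ Ideal.span {g})

include hP hI in
theorem mem_sup_one_of_zero {w : R} (h : (decompose 𝒜 w 0 : R) ∈ P) : w ∈ P ⊔ Ideal.span {g} := by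
  rw [← add_sub_cancel (decompose 𝒜 w 0 : R) w]
  exact add_mem (Ideal.mem_sup_left h) (Ideal.mem_sup_right (hI w))

include hP hg in
theorem zero_mem_of_mem_sup_one {w : R} (h : w ∈ P ⊔ Ideal.span {g}) : (decompose 𝒜 w 0 : R) ∈ P := by
  obtain ⟨p, hp, q, hq, rfl⟩ := Submodule.mem_sup.1 h
  obtain ⟨r, rfl⟩ := Ideal.mem_span_singleton'.1 hq
  rw [decompose_add, DirectSum.add_apply, AddMemClass.coe_add, mul_comm, decompose_g_mul_zero 𝒜 hg, add_zero]
  exact hP 0 hp

include hP hg hgP hI in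
theorem mem_sup_succ {n : ℕ} {c : R} (hc : c ∈ P ⊔ Ideal.span {g ^ n})
    (hn : (decompose 𝒜 c n : R) ∈ P) : c ∈ P ⊔ Ideal.span {g ^ (n + 1)} := by
  obtain ⟨p, hp, q, hq, rfl⟩ := Submodule.mem_sup.1 hc
  obtain ⟨w, rfl⟩ := Ideal.mem_span_singleton'.1 hq
  rw [decompose_add, DirectSum.add_apply, AddMemClass.coe_add, mul_comm w, pow_mul_decompose 𝒜 hg] at hn
  have hw0 : (decompose 𝒜 w 0 : R) ∈ P :=
    ((‹P.IsPrime›.mem_or_mem ((Ideal.add_mem_iff_right P (hP n hp)).1 hn)).resolve_left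
      fun h => hgP (‹P.IsPrime›.mem_of_pow_mem n h))
  obtain ⟨p', hp', q', hq', rfl⟩ := Submodule.mem_sup.1 (mem_sup_one_of_zero 𝒜 hP hI hw0)
  obtain ⟨r, rfl⟩ := Ideal.mem_span_singleton'.1 hq'
  refine Submodule.mem_sup.2 ⟨p + p' * g ^ n, add_mem hp (Ideal.mul_mem_right _ _ hp'), r * g ^ (n + 1),
    Ideal.mem_span_singleton'.2 ⟨r, rfl⟩, ?_⟩
  ring

include hP hg in
theorem decompose_mem_of_mem_sup_succ {n : ℕ} {c : R} (hc : c ∈ P ⊔ Ideal.span {g ^ (n + 1)}) :
    (decompose 𝒜 c n : R) ∈ P := by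
  obtain ⟨p, hp, q, hq, rfl⟩ := Submodule.mem_sup.1 hc
  obtain ⟨r, rfl⟩ := Ideal.mem_span_singleton'.1 hq
  rw [decompose_add, DirectSum.add_apply, AddMemClass.coe_add,
    coe_decompose_mul_of_right_mem_of_not_le 𝒜 (by simpa using SetLike.pow_mem_graded (n + 1) hg)
      (by omega : ¬ n + 1 ≤ n), add_zero]
  exact hP n hp

include hP hg hgP hI in
/-- Elements whose constant term is outside the prime cancel. -/
theorem cancel {s : R} (hs : (decompose 𝒜 s 0 : R) ∉ P) :
    ∀ (n : ℕ) {z : R}, s * z ∈ P ⊔ Ideal.span {g ^ n} → z ∈ P ⊔ Ideal.span {g ^ n}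
  | 0, _, _ => by simp
  | n + 1, z, h => by
    have hz : z ∈ P ⊔ Ideal.span {g ^ n} := cancel hs n
      (sup_le_sup_left (Ideal.span_singleton_le_span_singleton.2 (pow_dvd_pow g (Nat.le_succ n))) P h)
    refine mem_sup_succ 𝒜 hP hg hgP hI hz ?_
    obtain ⟨p, hp, q, hq, rfl⟩ := Submodule.mem_sup.1 hz
    obtain ⟨w, rfl⟩ := Ideal.mem_span_singleton'.1 hq
    obtain ⟨p', hp', q', hq', e⟩ := Submodule.mem_sup.1 h
    obtain ⟨r, rfl⟩ := Ideal.mem_span_singleton'.1 hq'
    have h1 : g ^ n * (s * w - g * r) ∈ P := by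
      rw [show g ^ n * (s * w - g * r) = p' - s * p from by linear_combination -e]
      exact sub_mem hp' (Ideal.mul_mem_left _ _ hp)
    have h2 : s * w - g * r ∈ P := ((‹P.IsPrime›.mem_or_mem h1).resolve_left
      fun h => hgP (‹P.IsPrime›.mem_of_pow_mem n h))
    have h3 := hP 0 h2
    change ((decompose 𝒜 (s * w - g * r) 0 : 𝒜 0) : R) ∈ P at h3
    rw [decompose_sub, DirectSum.sub_apply, AddSubgroupClass.coe_sub, decompose_g_mul_zero 𝒜 hg, sub_zero] at h3
    rw [← GradedRing.projZeroRingHom_apply, map_mul, GradedRing.projZeroRingHom_apply,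
      GradedRing.projZeroRingHom_apply] at h3
    rw [decompose_add, DirectSum.add_apply, AddMemClass.coe_add, mul_comm w, pow_mul_decompose 𝒜 hg]
    exact add_mem (hP n hp) (Ideal.mul_mem_left _ _ ((‹P.IsPrime›.mem_or_mem h3).resolve_left hs))

include hP hg in
/-- An element in `P + (g ^ n)` for all `n` is in `P`. -/
theorem mem_of_forall_mem_sup {a : R} (h : ∀ n, a ∈ P ⊔ Ideal.span {g ^ (n + 1)}) : a ∈ P := by
  classical
  rw [← DirectSum.sum_support_decompose 𝒜 a]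
  exact Ideal.sum_mem _ fun n _ => decompose_mem_of_mem_sup_succ 𝒜 hP hg (h n)

end Groth.Grauert
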