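/-
A line bundle whose zero section can be contracted is relatively ample (EGA II 8.9.1).
-/
import Groth.Agent.Grauert.GradedCancel
import Groth.Agent.RLpsi.Ample
import Groth.Agent.Ega2Proj.RelAmple
import Groth.Agent.Ega2Proj2.Vertex
import Groth.Agent.Ega2Proj2.RelSpecGamma

set_option autoImplicit false
universe u
open CategoryTheory CategoryTheory.Limits AlgebraicGeometry Opposite TopologicalSpace
open scoped HomogeneousIdeal

set_option backward.isDefEq.respectTransparency.types false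

noncomputable section

namespace Groth.Grauert

open Groth.PicAux Groth.RLpsi Groth.RelTw Groth.PropsBasic.Ample

variable {X : Scheme.{u}}

/-- The charts of a relative spectrum as affine opens of it. -/
theorem ι_eq_fromSpec (A : RelSpec.QCAlg X) (U : X.Opens) (hU : IsAffineOpen U) :
    A.ι U hU = Spec.map (A.gammaAff U hU) ≫ (hU.preimage A.π).fromSpec := by
  rw [RelSpec.QCAlg.gammaAff, Spec.map_comp, Category.assoc,
    IsAffineOpen.SpecMap_appLE_fromSpec (A.ι U hU) (hU.preimage A.π) (isAffineOpen_top _),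
    IsAffineOpen.fromSpec_top, Scheme.isoSpec_Spec_inv, ← Category.assoc, ← Spec.map_comp,
    Iso.inv_hom_id, Spec.map_id, Category.id_comp]

/-- Charts over nested affine opens. -/
theorem ι_res_le (A : RelSpec.QCAlg X) {U V : X.Opens} (hU : IsAffineOpen U) (hV : IsAffineOpen V) (h : V ≤ U) :
    Spec.map (A.presheaf.map (homOfLE h).op) ≫ A.ι U hU = A.ι V hV := by
  have hnat : (A.spec.presheaf.map (homOfLE (A.π.preimage_mono h)).op) ≫ A.gammaAff V hV =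
      A.gammaAff U hU ≫ A.presheaf.map (homOfLE h).op := by
    rw [← A.gammaMap_app V hV, ← A.gammaMap_app U hU]
    exact A.gammaMap.naturality (homOfLE h).op
  rw [ι_eq_fromSpec A U hU, ι_eq_fromSpec A V hV, ← Category.assoc, ← Spec.map_comp, ← hnat,
    Spec.map_comp, Category.assoc, (hU.preimage A.π).map_fromSpec]

theorem mem_basicOpen_iff_notMem {V : X.Opens} (hV : IsAffineOpen V) {x : X} (hx : x ∈ V) (c : Γ(X, V)) :
    x ∈ X.basicOpen c ↔ c ∉ (hV.primeIdealOf ⟨x, hx⟩).asIdeal := by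
  conv_lhs => rw [show x = hV.fromSpec (hV.primeIdealOf ⟨x, hx⟩) from (hV.fromSpec_primeIdealOf ⟨x, hx⟩).symm]
  rw [← PrimeSpectrum.mem_basicOpen, ← hV.fromSpec_preimage_basicOpen]
  rfl

variable {Y C : Scheme.{u}} (p : X ⟶ Y) {L : X.Modules} [L.IsQuasicoherent] (hL : PicF.IsInvertible L)
  {𝒜 : RelProj.QCGrAlg X} {jL : L ⟶ 𝒜.toModule} (hA : RelProj.IsGrSymAlg L 𝒜 jL)
  (h0 : RelCone.StrZeroBij 𝒜)
  {aug : 𝒜.toQCAlg ⟶ RelSpec.QCAlg.unit X} (haug : RelCone.IsAugmentation 𝒜 aug)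
  {j0 : X ⟶ 𝒜.toQCAlg.spec} (hj0 : RelCone.IsVertex 𝒜 aug j0)
  {ε : Y ⟶ C} (q : 𝒜.toQCAlg.spec ⟶ C) (hjq : j0 ≫ q = p ≫ ε)

section component

variable {U : C.Opens} (φ : Γ(C, U)) {D : X.Opens} (hD : ∀ x ∈ D, p x ∈ ε ⁻¹ᵁ U) (n : ℕ)
  {M : X.Opens} (hM : IsAffineOpen M)

/-- The infinitesimal neighbourhood of the zero section, mapped by `q`. -/
def nbMap : Spec (CommRingCat.of (𝒜.presheaf.obj (op M) ⧸ highIdeal (𝒜.deg M hM) n)) ⟶ C :=
  Spec.map (CommRingCat.ofHom (Ideal.Quotient.mk (highIdeal (𝒜.deg M hM) n))) ≫ 𝒜.toQCAlg.ι M hM ≫ q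

include h0 haug hj0 hjq hD in
theorem top_le_nbMap (hMD : M ≤ D) : ⊤ ≤ nbMap q n hM ⁻¹ᵁ U := by
  intro z _
  let y : Spec (𝒜.presheaf.obj (op M)) :=
    Spec.map (CommRingCat.ofHom (Ideal.Quotient.mk (highIdeal (𝒜.deg M hM) n))) z
  have hy : y ∈ PrimeSpectrum.zeroLocus ((HomogeneousIdeal.irrelevant (𝒜.deg M hM)).toIdeal :
      Set (𝒜.presheaf.obj (op M))) := by
    refine (PrimeSpectrum.mem_zeroLocus _ _).2 ((HomogeneousIdeal.toIdeal_irrelevant_le _).mpr fun i hi a ha => ?_)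
    refine y.2.mem_of_pow_mem (n + 1) ?_
    have h1 : Ideal.Quotient.mk (highIdeal (𝒜.deg M hM) n) (a ^ (n + 1)) = 0 := by
      rw [Ideal.Quotient.eq_zero_iff_mem]
      refine Ideal.subset_span ⟨(n + 1) * i, ?_, by simpa using SetLike.pow_mem_graded (A := 𝒜.deg M hM) (n + 1) ha⟩
      nlinarith
    exact Ideal.mem_comap.2 (h1 ▸ z.asIdeal.zero_mem)
  obtain ⟨x, hx⟩ := (Groth.Ega2P2.chart_mem_range_vertex_iff 𝒜 aug h0 haug hj0 M hM y).2 hy
  change q ((𝒜.toQCAlg.ι M hM).base y) ∈ U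
  rw [← hx, ← Scheme.Hom.comp_apply, hjq]
  refine hD x (hMD ?_)
  have h2 : 𝒜.toQCAlg.π (j0 x) ∈ M := by
    rw [hx]
    exact (Groth.Ega2P2.specCharts 𝒜.toQCAlg).map_mem hM y
  rwa [← Scheme.Hom.comp_apply, hj0.comp_π] at h2

/-- The pull back of `φ` to the neighbourhood. -/
def pullQuot (h : ⊤ ≤ nbMap (𝒜 := 𝒜) q n hM ⁻¹ᵁ U) :
    𝒜.presheaf.obj (op M) ⧸ highIdeal (𝒜.deg M hM) n :=
  ((nbMap (𝒜 := 𝒜) q n hM).appLE U ⊤ h ≫ (Scheme.ΓSpecIso _).hom).hom φ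

/-- The Taylor coefficient of degree `n`. -/
def comp (h : ⊤ ≤ nbMap (𝒜 := 𝒜) q n hM ⁻¹ᵁ U) : 𝒜.presheaf.obj (op M) :=
  (DirectSum.decompose (𝒜.deg M hM)
    (Ideal.Quotient.mk_surjective (pullQuot q φ n hM h)).choose n : 𝒜.presheaf.obj (op M))

theorem comp_eq (h : ⊤ ≤ nbMap (𝒜 := 𝒜) q n hM ⁻¹ᵁ U) {c : 𝒜.presheaf.obj (op M)}
    (hc : Ideal.Quotient.mk _ c = pullQuot q φ n hM h) :
    comp q φ n hM h = (DirectSum.decompose (𝒜.deg M hM) c n : 𝒜.presheaf.obj (op M)) := by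
  have h1 := (Ideal.Quotient.mk_surjective (pullQuot q φ n hM h)).choose_spec.trans hc.symm
  have h2 := decompose_eq_zero_of_mem_highIdeal (𝒜.deg M hM) (Ideal.Quotient.eq.1 h1) le_rfl
  rw [DirectSum.decompose_sub, DirectSum.sub_apply, AddSubgroupClass.coe_sub, sub_eq_zero] at h2
  exact h2

theorem rs_comp (h : ⊤ ≤ nbMap (𝒜 := 𝒜) q n hM ⁻¹ᵁ U) {M' : X.Opens} (hM' : IsAffineOpen M') (hle : M' ≤ M)
    (h' : ⊤ ≤ nbMap (𝒜 := 𝒜) q n hM' ⁻¹ᵁ U) :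
    rs 𝒜 hle (comp q φ n hM h) = comp q φ n hM' h' := by
  have hJ : highIdeal (𝒜.deg M hM) n ≤ (highIdeal (𝒜.deg M' hM') n).comap (rs 𝒜 hle) :=
    Ideal.span_le.2 fun a ⟨i, hi, ha⟩ => Ideal.subset_span ⟨i, hi, 𝒜.map_mem hM hM' hle ha⟩
  let r := CommRingCat.ofHom (Ideal.quotientMap _ (rs 𝒜 hle) hJ)
  have hfac : Spec.map r ≫ nbMap q n hM = nbMap (𝒜 := 𝒜) q n hM' := by
    rw [nbMap, nbMap, ← Category.assoc, ← Spec.map_comp]
    have e : CommRingCat.ofHom (Ideal.Quotient.mk (highIdeal (𝒜.deg M hM) n)) ≫ r =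
        𝒜.presheaf.map (homOfLE hle).op ≫ CommRingCat.ofHom (Ideal.Quotient.mk (highIdeal (𝒜.deg M' hM') n)) := rfl
    rw [e, Spec.map_comp, Category.assoc, ← Category.assoc (Spec.map (𝒜.presheaf.map _)),
      ι_res_le 𝒜.toQCAlg hM hM' hle]
  have hnat : Ideal.quotientMap _ (rs 𝒜 hle) hJ (pullQuot q φ n hM h) = pullQuot q φ n hM' h' := by
    have e1 : ∀ (ψ : Spec (CommRingCat.of (𝒜.presheaf.obj (op M') ⧸ highIdeal (𝒜.deg M' hM') n)) ⟶ C) (hψ : ⊤ ≤ ψ ⁻¹ᵁ U),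
        ψ = nbMap q n hM' → (ψ.appLE U ⊤ hψ ≫ (Scheme.ΓSpecIso _).hom).hom φ = pullQuot q φ n hM' h' := by
      rintro ψ hψ rfl
      rfl
    refine Eq.trans ?_ (e1 (Spec.map r ≫ nbMap q n hM) (by rw [hfac]; exact h') hfac)
    rw [← Scheme.Hom.appLE_comp_appLE (Spec.map r) (nbMap q n hM) U ⊤ ⊤ h le_top]
    have e2 : (Spec.map r).appLE ⊤ ⊤ le_top ≫ (Scheme.ΓSpecIso _).hom = (Scheme.ΓSpecIso _).hom ≫ r := by
      rw [show (Spec.map r).appLE ⊤ ⊤ le_top = (Spec.map r).appTop from (Scheme.Hom.app_eq_appLE _).symm]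
      exact Scheme.ΓSpecIso_naturality r
    rw [Category.assoc, e2]
    rfl
  rw [comp_eq q φ n hM h (Ideal.Quotient.mk_surjective (pullQuot q φ n hM h)).choose_spec,
    comp_eq q φ n hM' h' (c := rs 𝒜 hle (Ideal.Quotient.mk_surjective (pullQuot q φ n hM h)).choose) (by
      rw [← hnat]
      conv_rhs => rw [← (Ideal.Quotient.mk_surjective (pullQuot q φ n hM h)).choose_spec]
      rw [Ideal.quotientMap_mk])]
  exact GradedRingHom.map_directSumDecompose (𝒜 := 𝒜.deg M hM) (ℬ := 𝒜.deg M' hM') (𝒜.res hM hM' hle)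

include h0 haug hj0 hjq hD in
/-- The coefficients glue. -/
theorem exists_coeffSec : ∃ y : 𝒜.presheaf.obj (op D),
    (∀ (V : X.Opens) (hV : IsAffineOpen V) (h : V ≤ D), rs 𝒜 h y ∈ 𝒜.deg V hV n) ∧
    ∀ (V : X.Opens) (hV : IsAffineOpen V) (h : V ≤ D),
      rs 𝒜 h y = comp q φ n hV (top_le_nbMap p h0 haug hj0 q hjq hD n hV h) := by
  let I := {V : X.affineOpens // V.1 ≤ D}
  have hI : ∀ i : I, ⊤ ≤ nbMap (𝒜 := 𝒜) q n i.1.2 ⁻¹ᵁ U := fun i =>
    top_le_nbMap p h0 haug hj0 q hjq hD n i.1.2 i.2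
  obtain ⟨y, hy, -⟩ := TopCat.Sheaf.existsUnique_gluing' (⟨𝒜.presheaf, 𝒜.isSheaf⟩ : TopCat.Sheaf CommRingCat.{u} X)
    (fun i : I => i.1.1) D (fun i => homOfLE i.2) (fun x hx => by
      obtain ⟨V, hV, hxV, hVD⟩ := exists_isAffineOpen_mem_and_subset (x := x) (U := D) hx
      exact Opens.mem_iSup.2 ⟨⟨⟨V, hV⟩, hVD⟩, hxV⟩)
    (fun i => comp q φ n i.1.2 (hI i)) fun i j => by
      change rs 𝒜 (inf_le_left : i.1.1 ⊓ j.1.1 ≤ i.1.1) _ = rs 𝒜 (inf_le_right : i.1.1 ⊓ j.1.1 ≤ j.1.1) _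
      refine eq_of_locally (fun k : {W : X.affineOpens // W.1 ≤ i.1.1 ⊓ j.1.1} => k.1.1) (fun k => k.2)
        (fun x hx => ?_) fun k => ?_
      · obtain ⟨V, hV, hxV, hVD⟩ := exists_isAffineOpen_mem_and_subset (x := x) (U := i.1.1 ⊓ j.1.1) hx
        exact Opens.mem_iSup.2 ⟨⟨⟨V, hV⟩, hVD⟩, hxV⟩
      · have hk := top_le_nbMap p h0 haug hj0 q hjq hD n k.1.2 ((k.2.trans inf_le_left).trans i.2)
        rw [rs_rs, rs_rs, rs_comp q φ n i.1.2 (hI i) k.1.2 _ hk, rs_comp q φ n j.1.2 (hI j) k.1.2 _ hk]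
  replace hy : ∀ i : I, rs 𝒜 i.2 y = comp q φ n i.1.2 (hI i) := hy
  refine ⟨y, fun V hV h => ?_, fun V hV h => hy ⟨⟨V, hV⟩, h⟩⟩
  rw [show rs 𝒜 h y = comp q φ n hV (hI ⟨⟨V, hV⟩, h⟩) from hy ⟨⟨V, hV⟩, h⟩]
  exact SetLike.coe_mem _

end component

variable {M : X.Opens} (hM : IsAffineOpen M) {g : Γ(L, M)} (hg : Gen L M g)

/-- The generic point of the fibre over `x` as an ideal. -/
def fibIdeal {x : X} (hx : x ∈ M) : Ideal (𝒜.presheaf.obj (op M)) :=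
  (hM.primeIdealOf ⟨x, hx⟩).asIdeal.map (sc 𝒜 M)

variable {x : X} (hx : x ∈ M)

theorem isHomogeneous_fibIdeal : (fibIdeal (𝒜 := 𝒜) hM hx).IsHomogeneous (𝒜.deg M hM) := by
  refine Ideal.homogeneous_span _ _ ?_
  rintro _ ⟨a, -, rfl⟩
  exact ⟨0, 𝒜.str_mem M hM a⟩

include hA hg in
theorem mem_fibIdeal_iff (n : ℕ) (c : Γ(X, M)) :
    sc 𝒜 M c * jel 𝒜 jL M g ^ n ∈ fibIdeal hM hx ↔ c ∈ (hM.primeIdealOf ⟨x, hx⟩).asIdeal := by
  classical
  refine ⟨fun h => ?_, fun h => Ideal.mul_mem_right _ _ (Ideal.mem_map_of_mem _ h)⟩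
  have key : ∀ a ∈ fibIdeal (𝒜 := 𝒜) hM hx, ∀ k, ∃ d ∈ (hM.primeIdealOf ⟨x, hx⟩).asIdeal,
      (DirectSum.decompose (𝒜.deg M hM) a k : 𝒜.presheaf.obj (op M)) = sc 𝒜 M d * jel 𝒜 jL M g ^ k := by
    intro a ha
    induction ha using Submodule.span_induction with
    | mem y hy =>
      obtain ⟨b, hb, rfl⟩ := hy
      intro k
      rcases Nat.eq_zero_or_pos k with rfl | hk
      · exact ⟨b, hb, by rw [DirectSum.decompose_of_mem_same _ (𝒜.str_mem M hM b), pow_zero, mul_one]⟩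
      · exact ⟨0, Ideal.zero_mem _, by
          rw [DirectSum.decompose_of_mem_ne _ (𝒜.str_mem M hM b) hk.ne, map_zero, zero_mul]⟩
    | zero => exact fun k => ⟨0, Ideal.zero_mem _, by simp⟩
    | add y z _ _ hy hz =>
      intro k
      obtain ⟨d, hd, e⟩ := hy k
      obtain ⟨d', hd', e'⟩ := hz k
      exact ⟨d + d', add_mem hd hd', by
        rw [DirectSum.decompose_add, DirectSum.add_apply, AddMemClass.coe_add, e, e', map_add, add_mul]⟩
    | smul r y _ hy =>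
      intro k
      choose d hd he using hy
      choose e heq using fun i => exists_coeff hA hM hg
        (SetLike.coe_mem (DirectSum.decompose (𝒜.deg M hM) r i))
      rw [smul_eq_mul, DirectSum.decompose_mul, DirectSum.coe_mul_apply]
      refine ⟨∑ c ∈ Finset.filter (fun c : ℕ × ℕ => c.1 + c.2 = k)
          ((DirectSum.decompose (𝒜.deg M hM) r).support ×ˢ (DirectSum.decompose (𝒜.deg M hM) y).support),
          e c.1 * d c.2, Ideal.sum_mem _ fun c _ => Ideal.mul_mem_left _ _ (hd c.2), ?_⟩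
      rw [map_sum, Finset.sum_mul]
      refine Finset.sum_congr rfl fun c hc => ?_
      rw [heq, he, map_mul, ← (Finset.mem_filter.1 hc).2, pow_add]
      ring
  obtain ⟨d, hd, e⟩ := key _ h n
  rw [DirectSum.decompose_of_mem_same _ (sc_mul_pow_mem hA hM c n)] at e
  rwa [coeff_inj hA hM hg e]

include hA hg in
theorem isPrime_fibIdeal : (fibIdeal (𝒜 := 𝒜) hM hx).IsPrime := by
  refine (isHomogeneous_fibIdeal hM hx).isPrime_of_homogeneous_mem_or_mem ?_ ?_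
  · intro h
    have h1 : sc 𝒜 M 1 * jel 𝒜 jL M g ^ 0 ∈ fibIdeal hM hx := h ▸ Submodule.mem_top
    exact (hM.primeIdealOf ⟨x, hx⟩).2.ne_top
      ((Ideal.eq_top_iff_one _).2 ((mem_fibIdeal_iff hA hM hg hx 0 1).1 h1))
  · rintro a b ⟨i, ha⟩ ⟨j, hb⟩ hab
    obtain ⟨c, rfl⟩ := exists_coeff hA hM hg ha
    obtain ⟨d, rfl⟩ := exists_coeff hA hM hg hb
    rw [mem_fibIdeal_iff hA hM hg hx, mem_fibIdeal_iff hA hM hg hx]
    refine (hM.primeIdealOf ⟨x, hx⟩).2.mem_or_mem ((mem_fibIdeal_iff hA hM hg hx (i + j) (c * d)).1 ?_)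
    rwa [show sc 𝒜 M (c * d) * jel 𝒜 jL M g ^ (i + j) =
      sc 𝒜 M c * jel 𝒜 jL M g ^ i * (sc 𝒜 M d * jel 𝒜 jL M g ^ j) by rw [map_mul, pow_add]; ring]

include hA hg in
theorem jel_notMem_fibIdeal : jel 𝒜 jL M g ∉ fibIdeal hM hx := fun h =>
  (hM.primeIdealOf ⟨x, hx⟩).2.ne_top ((Ideal.eq_top_iff_one _).2
    ((mem_fibIdeal_iff hA hM hg hx 1 1).1 (by rwa [map_one, one_mul, pow_one])))

include hA hg in
theorem sub_decompose_zero_mem (a : 𝒜.presheaf.obj (op M)) :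
    a - (DirectSum.decompose (𝒜.deg M hM) a 0 : 𝒜.presheaf.obj (op M)) ∈ Ideal.span {jel 𝒜 jL M g} := by
  classical
  have e : (DirectSum.decompose (𝒜.deg M hM) a 0 : 𝒜.presheaf.obj (op M)) =
      ∑ i ∈ insert 0 (DirectSum.decompose (𝒜.deg M hM) a).support,
        if i = 0 then (DirectSum.decompose (𝒜.deg M hM) a i : 𝒜.presheaf.obj (op M)) else 0 := by
    rw [Finset.sum_ite_eq']; simp
  have e' : a = ∑ i ∈ insert 0 (DirectSum.decompose (𝒜.deg M hM) a).support,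
      (DirectSum.decompose (𝒜.deg M hM) a i : 𝒜.presheaf.obj (op M)) := by
    conv_lhs => rw [← DirectSum.sum_support_decompose (𝒜.deg M hM) a]
    refine Finset.sum_subset (Finset.subset_insert _ _) fun i _ hi => ?_
    rw [DFinsupp.notMem_support_iff.1 hi]
    rfl
  rw [e]
  nth_rewrite 1 [e']
  rw [← Finset.sum_sub_distrib]
  refine Ideal.sum_mem _ fun i _ => ?_
  split_ifs with hi
  · rw [sub_self]; exact Ideal.zero_mem _
  · rw [sub_zero]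
    obtain ⟨c, hc⟩ := exists_coeff hA hM hg (SetLike.coe_mem (DirectSum.decompose (𝒜.deg M hM) a i))
    rw [hc]
    obtain ⟨m, rfl⟩ := Nat.exists_eq_succ_of_ne_zero hi
    exact Ideal.mem_span_singleton'.2 ⟨sc 𝒜 M c * jel 𝒜 jL M g ^ m, by rw [pow_succ]; ring⟩

include hA hg in
theorem highIdeal_le (n : ℕ) : highIdeal (𝒜.deg M hM) n ≤ Ideal.span {jel 𝒜 jL M g ^ (n + 1)} := by
  refine Ideal.span_le.2 fun a ⟨i, hi, ha⟩ => ?_
  obtain ⟨c, rfl⟩ := exists_coeff hA hM hg ha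
  exact Ideal.mul_mem_left _ _ (Ideal.mem_span_singleton.2 (pow_dvd_pow _ hi))

/-- The generic point of the fibre. -/
def gpt : Spec (𝒜.presheaf.obj (op M)) :=
  ⟨fibIdeal hM hx, isPrime_fibIdeal hA hM hg hx⟩

/-- The point of the zero section over `x`. -/
def zpt : Spec (𝒜.presheaf.obj (op M)) :=
  Spec.map (aug.hom.app (op M)) (hM.primeIdealOf ⟨x, hx⟩)

include hj0 in
theorem ι_zpt : (𝒜.toQCAlg.ι M hM) (zpt (aug := aug) hM hx) = j0 x := by
  have h := congr($(hj0.chart M hM).base (hM.primeIdealOf ⟨x, hx⟩))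
  exact h.symm.trans (congrArg j0 (hM.fromSpec_primeIdealOf ⟨x, hx⟩))

theorem π_ι_gpt : 𝒜.toQCAlg.π ((𝒜.toQCAlg.ι M hM) (gpt hA hM hg hx)) = x := by
  rw [← Scheme.Hom.comp_apply, 𝒜.toQCAlg.ι_π M hM, Scheme.Hom.comp_apply]
  refine (congrArg hM.fromSpec ?_).trans (hM.fromSpec_primeIdealOf ⟨x, hx⟩)
  refine PrimeSpectrum.ext (Ideal.ext fun c => ?_)
  have := mem_fibIdeal_iff hA hM hg hx 0 c
  rw [pow_zero, mul_one] at this
  exact this

include hA hg h0 haug hj0 in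
theorem ι_gpt_notMem_range : (𝒜.toQCAlg.ι M hM) (gpt hA hM hg hx) ∉ Set.range j0.base := by
  intro h
  have h1 := (PrimeSpectrum.mem_zeroLocus _ _).1
    ((Groth.Ega2P2.chart_mem_range_vertex_iff 𝒜 aug h0 haug hj0 M hM _).1 h)
  refine jel_notMem_fibIdeal hA hM hg hx (h1 ?_)
  exact HomogeneousIdeal.mem_irrelevant_of_mem _ (Nat.one_pos) (hA.2 M hM g)

include h0 in
theorem aug_eq (a : 𝒜.presheaf.obj (op M)) (haug : RelCone.IsAugmentation 𝒜 aug) {c : Γ(X, M)}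
    (hc : (DirectSum.decompose (𝒜.deg M hM) a 0 : 𝒜.presheaf.obj (op M)) = sc 𝒜 M c) :
    (aug.hom.app (op M)).hom a = c := by
  have hk : a - sc 𝒜 M c ∈ RingHom.ker (aug.hom.app (op M)).hom := by
    rw [Groth.Ega2P2.aug_ker 𝒜 aug h0 haug M hM]
    refine (HomogeneousIdeal.mem_irrelevant_iff _ _).mpr ?_
    rw [GradedRing.proj_apply, DirectSum.decompose_sub, DirectSum.sub_apply, AddSubgroupClass.coe_sub, hc,
      DirectSum.decompose_of_mem_same _ (𝒜.str_mem M hM c), sub_self]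
  rw [RingHom.mem_ker, map_sub, sub_eq_zero] at hk
  exact hk.trans (congr($(NatTrans.congr_app aug.comm (op M)).hom c))

include hA hg h0 haug in
theorem notMem_of_notMem_zpt {s : 𝒜.presheaf.obj (op M)} (hs : s ∉ (zpt (aug := aug) hM hx).asIdeal) :
    (DirectSum.decompose (𝒜.deg M hM) s 0 : 𝒜.presheaf.obj (op M)) ∉ fibIdeal hM hx := by
  obtain ⟨c, hc⟩ := exists_coeff hA hM hg (SetLike.coe_mem (DirectSum.decompose (𝒜.deg M hM) s 0))
  rw [hc, mem_fibIdeal_iff hA hM hg hx]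
  rw [pow_zero, mul_one] at hc
  intro h
  refine hs ?_
  change (aug.hom.app (op M)).hom s ∈ (hM.primeIdealOf ⟨x, hx⟩).asIdeal
  rwa [aug_eq h0 hM s haug hc]

include hA hg h0 haug in
theorem gpt_specializes : gpt hA hM hg hx ⤳ zpt (aug := aug) hM hx := by
  refine (PrimeSpectrum.le_iff_specializes _ _).1 ?_
  change fibIdeal hM hx ≤ _
  refine Ideal.map_le_iff_le_comap.2 fun c hc => ?_
  change (aug.hom.app (op M)).hom (sc 𝒜 M c) ∈ (hM.primeIdealOf ⟨x, hx⟩).asIdeal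
  rwa [aug_eq h0 hM _ haug (DirectSum.decompose_of_mem_same _ (𝒜.str_mem M hM c))]

variable {U : C.Opens} (φ : Γ(C, U)) {D : X.Opens} (hD : ∀ x ∈ D, p x ∈ ε ⁻¹ᵁ U) (hMD : M ≤ D)

include hA hg h0 haug hj0 hjq hD hMD in
/-- The value of `φ` at the generic point of the fibre is seen by the coefficients. -/
theorem coeff_criterion : ∃ a : 𝒜.presheaf.obj (op M),
    (q ((𝒜.toQCAlg.ι M hM) (gpt hA hM hg hx)) ∈ C.basicOpen φ ↔ a ∉ fibIdeal hM hx) ∧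
    (q (j0 x) ∈ C.basicOpen φ ↔
      (DirectSum.decompose (𝒜.deg M hM) a 0 : 𝒜.presheaf.obj (op M)) ∉ fibIdeal hM hx) ∧
    ∀ n, a ∈ fibIdeal hM hx ⊔ Ideal.span {jel 𝒜 jL M g ^ n} →
      ((n = 0 ∨ comp q φ (n - 1) hM (top_le_nbMap p h0 haug hj0 q hjq hD (n - 1) hM hMD) ∈ fibIdeal hM hx) ∧
        (comp q φ n hM (top_le_nbMap p h0 haug hj0 q hjq hD n hM hMD) ∈ fibIdeal hM hx →
          a ∈ fibIdeal hM hx ⊔ Ideal.span {jel 𝒜 jL M g ^ (n + 1)})) := by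
  have := isPrime_fibIdeal hA hM hg hx
  let f := 𝒜.toQCAlg.ι M hM ≫ q
  have hz : zpt (aug := aug) hM hx ∈ f ⁻¹ᵁ U := by
    change q ((𝒜.toQCAlg.ι M hM) (zpt (aug := aug) hM hx)) ∈ U
    rw [ι_zpt hj0 hM hx, ← Scheme.Hom.comp_apply, hjq]
    exact hD x (hMD hx)
  obtain ⟨_, ⟨b, rfl⟩, hzb, hbO⟩ :=
    PrimeSpectrum.isTopologicalBasis_basic_opens.exists_subset_of_mem_open hz (f ⁻¹ᵁ U).2
  have hb : b ∉ (zpt (aug := aug) hM hx).asIdeal := hzb
  have hgb : gpt hA hM hg hx ∈ PrimeSpectrum.basicOpen b :=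
    (gpt_specializes hA h0 haug hM hg hx).mem_open (PrimeSpectrum.basicOpen b).2 hzb
  let Rb := CommRingCat.of (Localization.Away b)
  let ιb : Spec Rb ⟶ Spec (𝒜.presheaf.obj (op M)) := Spec.map (CommRingCat.ofHom (algebraMap (𝒜.presheaf.obj (op M)) (Localization.Away b)))
  have hrange : Set.range ιb = (PrimeSpectrum.basicOpen b : Set (PrimeSpectrum (𝒜.presheaf.obj (op M)))) :=
    PrimeSpectrum.localization_away_comap_range (Localization.Away b) b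
  have hle : ⊤ ≤ (ιb ≫ f) ⁻¹ᵁ U := fun w _ => hbO (hrange.le ⟨w, rfl⟩)
  let α : Localization.Away b := ((ιb ≫ f).appLE U ⊤ hle ≫ (Scheme.ΓSpecIso Rb).hom).hom φ
  obtain ⟨k, a, ha⟩ := IsLocalization.Away.surj b α
  have hmem : ∀ w : Spec Rb, f (ιb w) ∈ C.basicOpen φ ↔ a ∉ (ιb w).asIdeal := by
    intro w
    have h1 : (ιb ≫ f) ⁻¹ᵁ C.basicOpen φ = (Spec Rb).basicOpen ((ιb ≫ f).appLE U ⊤ hle φ) := by
      rw [Scheme.basicOpen_appLE, top_inf_eq]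
    have h2 : (Spec Rb).basicOpen ((ιb ≫ f).appLE U ⊤ hle φ) = PrimeSpectrum.basicOpen α := basicOpen_eq_of_affine' _
    have h3 : f (ιb w) ∈ C.basicOpen φ ↔ α ∉ w.asIdeal := by
      refine Iff.trans ?_ (show w ∈ PrimeSpectrum.basicOpen α ↔ _ from Iff.rfl)
      rw [← h2, ← h1]
      rfl
    rw [h3, show a ∈ (ιb w).asIdeal ↔ algebraMap (𝒜.presheaf.obj (op M)) (Localization.Away b) a ∈ w.asIdeal from Iff.rfl, ← ha]
    refine not_congr ⟨fun h => Ideal.mul_mem_right _ _ h, fun h => (w.2.mem_or_mem h).resolve_right ?_⟩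
    exact fun hc => w.2.ne_top (Ideal.eq_top_of_isUnit_mem _ hc
      ((IsLocalization.Away.algebraMap_isUnit b).pow k))
  refine ⟨a, ?_, ?_, fun n hn => ?_⟩
  · obtain ⟨w, hw⟩ : gpt hA hM hg hx ∈ Set.range ιb := hrange ▸ hgb
    have := hmem w
    rw [hw] at this
    exact this
  · obtain ⟨w, hw⟩ : zpt (aug := aug) hM hx ∈ Set.range ιb := hrange ▸ hzb
    have := hmem w
    rw [hw] at this
    rw [← ι_zpt hj0 hM hx]
    refine this.trans (not_congr ?_)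
    obtain ⟨c, hc⟩ := exists_coeff hA hM hg (SetLike.coe_mem (DirectSum.decompose (𝒜.deg M hM) a 0))
    rw [hc, mem_fibIdeal_iff hA hM hg hx]
    rw [pow_zero, mul_one] at hc
    change (aug.hom.app (op M)).hom a ∈ (hM.primeIdealOf ⟨x, hx⟩).asIdeal ↔ _
    rw [aug_eq h0 hM a haug hc]
    rfl
  have key : ∀ m, ∃ c s : (𝒜.presheaf.obj (op M)), Ideal.Quotient.mk _ c = pullQuot q φ m hM (top_le_nbMap p h0 haug hj0 q hjq hD m hM hMD) ∧
      (DirectSum.decompose (𝒜.deg M hM) s 0 : (𝒜.presheaf.obj (op M))) ∉ fibIdeal hM hx ∧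
      ∃ s' : (𝒜.presheaf.obj (op M)), (DirectSum.decompose (𝒜.deg M hM) s' 0 : (𝒜.presheaf.obj (op M))) ∉ fibIdeal hM hx ∧
        s' * a - s * c ∈ highIdeal (𝒜.deg M hM) m := by
    intro m
    let J := highIdeal (𝒜.deg M hM) m
    obtain ⟨c, hc⟩ := Ideal.Quotient.mk_surjective (pullQuot q φ m hM (top_le_nbMap p h0 haug hj0 q hjq hD m hM hMD))
    let Jb := J.map (algebraMap (𝒜.presheaf.obj (op M)) (Localization.Away b))
    let T := CommRingCat.of (Localization.Away b ⧸ Jb)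
    let r₁ : CommRingCat.of ((𝒜.presheaf.obj (op M)) ⧸ J) ⟶ T :=
      CommRingCat.ofHom (Ideal.quotientMap Jb (algebraMap (𝒜.presheaf.obj (op M)) (Localization.Away b)) Ideal.le_comap_map)
    let r₂ : Rb ⟶ T := CommRingCat.ofHom (Ideal.Quotient.mk Jb)
    have hfac : Spec.map r₁ ≫ nbMap q m hM = Spec.map r₂ ≫ ιb ≫ f := by
      rw [nbMap, ← Category.assoc, ← Spec.map_comp, ← Category.assoc (Spec.map r₂), ← Spec.map_comp]
      rfl
    have happ : ∀ (ψ ψ' : Spec T ⟶ C) (h : ⊤ ≤ ψ ⁻¹ᵁ U) (h' : ⊤ ≤ ψ' ⁻¹ᵁ U), ψ = ψ' →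
        (ψ.appLE U ⊤ h ≫ (Scheme.ΓSpecIso T).hom).hom φ = (ψ'.appLE U ⊤ h' ≫ (Scheme.ΓSpecIso T).hom).hom φ := by
      rintro ψ ψ' h h' rfl
      rfl
    have hpull : ∀ {S' : CommRingCat.{u}} (r : S' ⟶ T) (ψ : Spec S' ⟶ C) (h : ⊤ ≤ ψ ⁻¹ᵁ U)
        (h' : ⊤ ≤ (Spec.map r ≫ ψ) ⁻¹ᵁ U),
        ((Spec.map r ≫ ψ).appLE U ⊤ h' ≫ (Scheme.ΓSpecIso T).hom).hom φ =
          r.hom ((ψ.appLE U ⊤ h ≫ (Scheme.ΓSpecIso S').hom).hom φ) := by
      intro S' r ψ h h'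
      rw [← Scheme.Hom.appLE_comp_appLE (Spec.map r) ψ U ⊤ ⊤ h le_top, Category.assoc,
        show (Spec.map r).appLE ⊤ ⊤ le_top = (Spec.map r).appTop from (Scheme.Hom.app_eq_appLE _).symm,
        Scheme.ΓSpecIso_naturality]
      rfl
    have hT : r₂.hom α = r₁.hom (Ideal.Quotient.mk J c) := by
      rw [hc]
      refine ((hpull r₂ (ιb ≫ f) hle (fun w _ => hle (Set.mem_univ (Spec.map r₂ w)))).symm.trans
        (happ _ _ _ ?_ hfac.symm)).trans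
        (hpull r₁ (nbMap q m hM) (top_le_nbMap p h0 haug hj0 q hjq hD m hM hMD) _)
      exact fun w _ => top_le_nbMap p h0 haug hj0 q hjq hD m hM hMD (Set.mem_univ (Spec.map r₁ w))
    have h4 : algebraMap (𝒜.presheaf.obj (op M)) (Localization.Away b) (a - b ^ k * c) ∈ Jb := by
      rw [← Ideal.Quotient.eq_zero_iff_mem, map_sub, map_sub, ← ha, map_mul, map_mul, map_mul,
        show Ideal.Quotient.mk Jb α = Ideal.Quotient.mk Jb (algebraMap (𝒜.presheaf.obj (op M)) _ c) from hT, map_pow, map_pow, map_pow]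
      ring
    obtain ⟨⟨⟨j, hj⟩, ⟨_, l, rfl⟩⟩, hjl⟩ := (IsLocalization.mem_map_algebraMap_iff (Submonoid.powers b)
      (Localization.Away b)).1 h4
    rw [← map_mul] at hjl
    obtain ⟨⟨_, e, rfl⟩, he⟩ := (IsLocalization.eq_iff_exists (Submonoid.powers b) (Localization.Away b)).1 hjl
    simp only at he
    have hpow : ∀ i, (DirectSum.decompose (𝒜.deg M hM) (b ^ i) 0 : (𝒜.presheaf.obj (op M))) ∉ fibIdeal hM hx := fun i =>
      notMem_of_notMem_zpt hA h0 haug hM hg hx fun hc => hb ((zpt (aug := aug) hM hx).2.mem_of_pow_mem i hc)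
    refine ⟨c, b ^ (k + (l + e)), hc, hpow _, b ^ (l + e), hpow _, ?_⟩
    rw [show b ^ (l + e) * a - b ^ (k + (l + e)) * c = b ^ e * ((a - b ^ k * c) * b ^ l) from by
      rw [pow_add b k, pow_add b l]; ring, he]
    exact Ideal.mul_mem_left _ _ hj
  have hP := isHomogeneous_fibIdeal (𝒜 := 𝒜) hM hx
  have hg1 : jel 𝒜 jL M g ∈ 𝒜.deg M hM 1 := hA.2 M hM g
  have hgP := jel_notMem_fibIdeal hA hM hg hx
  have hI := sub_decompose_zero_mem hA hM hg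
  have hJP : ∀ {i j : ℕ}, i ≤ j + 1 → highIdeal (𝒜.deg M hM) j ≤
      fibIdeal hM hx ⊔ Ideal.span {jel 𝒜 jL M g ^ i} := fun hij => (highIdeal_le hA hM hg _).trans
    ((Ideal.span_singleton_le_span_singleton.2 (pow_dvd_pow _ hij)).trans le_sup_right)
  refine ⟨?_, fun hcn => ?_⟩
  · rcases n with _ | m
    · exact Or.inl rfl
    refine Or.inr ?_
    obtain ⟨c, s, hc, hs, s', -, hsc⟩ := key m
    rw [show m + 1 - 1 = m from rfl, comp_eq q φ m hM _ hc]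
    refine decompose_mem_of_mem_sup_succ _ hP hg1 (cancel _ hP hg1 hgP hI hs (m + 1) ?_)
    rw [← sub_sub_cancel (s' * a) (s * c)]
    exact sub_mem (Ideal.mul_mem_left _ _ hn) (hJP le_rfl hsc)
  · obtain ⟨c, s, hc, hs, s', hs', hsc⟩ := key n
    rw [comp_eq q φ n hM _ hc] at hcn
    have hcmem : c ∈ fibIdeal hM hx ⊔ Ideal.span {jel 𝒜 jL M g ^ n} := by
      refine cancel _ hP hg1 hgP hI hs n ?_
      rw [← sub_sub_cancel (s' * a) (s * c)]
      exact sub_mem (Ideal.mul_mem_left _ _ hn) (hJP (Nat.le_succ n) hsc)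
    refine cancel _ hP hg1 hgP hI hs' (n + 1) ?_
    rw [← sub_add_cancel (s' * a) (s * c)]
    exact add_mem (hJP le_rfl hsc) (Ideal.mul_mem_left _ _ (mem_sup_succ _ hP hg1 hgP hI hcmem hcn))

omit hg hx hMD in
include hL hA h0 haug hj0 hjq in
/-- EGA II 8.9.1, the direct part: a contraction of the zero section forces ampleness. -/
theorem isRelAmple_of_contraction [QuasiCompact p] {V0 : 𝒜.toQCAlg.spec.Opens}
    (hV0 : (V0 : Set 𝒜.toQCAlg.spec) = (Set.range j0.base)ᶜ) (ho : IsOpenImmersion (V0.ι ≫ q))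
    (hdisj : Set.range (V0.ι ≫ q).base ∩ Set.range ε.base = ∅) : RelAmple.IsRelAmple p L := by
  refine Groth.Ega2Proj.isRelAmple_of_local p fun x₀ => ?_
  obtain ⟨U, hU, hεU, -⟩ :=
    exists_isAffineOpen_mem_and_subset (x := ε (p x₀)) (U := (⊤ : C.Opens)) trivial
  obtain ⟨W, hW, hpW, hWU⟩ := exists_isAffineOpen_mem_and_subset (x := p x₀) (U := ε ⁻¹ᵁ U) hεU
  let D : X.Opens := p ⁻¹ᵁ W
  have hD : ∀ x ∈ D, p x ∈ ε ⁻¹ᵁ U := fun x hx => hWU hx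
  refine ⟨W, D, D.ι, inferInstance, hpW, by rw [Scheme.Opens.range_ι], ?_⟩
  have : CompactSpace (D : Scheme.{u}) :=
    isCompact_iff_compactSpace.mp (p.isCompact_preimage hW.isCompact)
  refine Groth.Ega2Proj.isAmple_of_iso ((Scheme.Modules.restrictFunctorIsoPullback D.ι).app L).symm
    (isAmple_of_isBasis (isInvertible_pullback D.ι hL) ?_)
  rw [Opens.isBasis_iff_nbhd]
  intro O x hxO
  let N : X.Opens := D.ι ''ᵁ O
  have hxN : (D.ι x) ∈ N := ⟨x, hxO, rfl⟩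
  obtain ⟨M, hM, g, hxM, hMN, hg⟩ := exists_triv (L := L) hL hxN
  have hMD : M ≤ D := hMN.trans (by rintro _ ⟨w, -, rfl⟩; exact w.2)
  let G : C.Opens := (V0.ι ≫ q) ''ᵁ (V0.ι ⁻¹ᵁ (𝒜.toQCAlg.π ⁻¹ᵁ N))
  have hVmem : ∀ z, z ∉ Set.range j0.base → z ∈ V0 := fun z hz => hV0.ge hz
  set v := (𝒜.toQCAlg.ι M hM) (gpt hA hM hg hxM) with hv
  have hv0 : v ∈ V0 := hVmem _ (ι_gpt_notMem_range hA h0 haug hj0 hM hg hxM)
  have hvG : q v ∈ G := ⟨⟨v, hv0⟩, by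
    change 𝒜.toQCAlg.π v ∈ N
    rw [hv, π_ι_gpt hA hM hg hxM]; exact hxN, rfl⟩
  have hjU : ∀ {y : X}, y ∈ D → q (j0 y) ∈ U := fun {y} hy => by
    rw [← Scheme.Hom.comp_apply, hjq]; exact hD y hy
  have hgenU : ∀ {y : X} {M' : X.Opens} (hM' : IsAffineOpen M') {g' : Γ(L, M')} (hg' : Gen L M' g') (hy : y ∈ M'),
      y ∈ D → q ((𝒜.toQCAlg.ι M' hM') (gpt hA hM' hg' hy)) ∈ U := by
    intro y M' hM' g' hg' hy hyD
    refine ((gpt_specializes hA h0 haug hM' hg' hy).map (𝒜.toQCAlg.ι M' hM' ≫ q).continuous).mem_open U.2 ?_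
    change q ((𝒜.toQCAlg.ι M' hM') (zpt (aug := aug) hM' hy)) ∈ U
    rw [ι_zpt hj0 hM' hy]
    exact hjU hyD
  obtain ⟨φ, hφG, hvφ⟩ := hU.exists_basicOpen_le (V := G) ⟨q v, hvG⟩ (hgenU hM hg hxM (hMD hxM))
  -- some coefficient does not vanish at `x`
  obtain ⟨a, ha1, ha0, ha⟩ := coeff_criterion p hA h0 haug hj0 q hjq hM hg hxM φ hD hMD
  have hq0 : q (j0 (D.ι x)) ∉ C.basicOpen φ := fun h => by
    obtain ⟨w, -, hw⟩ := hφG h
    have hmem : q (j0 (D.ι x)) ∈ Set.range (V0.ι ≫ q).base ∩ Set.range ε.base :=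
      ⟨⟨w, hw⟩, p (D.ι x), (congr($(hjq).base (D.ι x))).symm⟩
    rw [hdisj] at hmem
    exact hmem
  have := isPrime_fibIdeal hA hM hg hxM
  obtain ⟨n, hn⟩ : ∃ n, comp q φ (n + 1) hM (top_le_nbMap p h0 haug hj0 q hjq hD (n + 1) hM hMD) ∉ fibIdeal hM hxM := by
    by_contra! hall
    have ha00 : (DirectSum.decompose (𝒜.deg M hM) a 0 : 𝒜.presheaf.obj (op M)) ∈ fibIdeal hM hxM :=
      not_not.1 fun h => hq0 (ha0.2 h)
    have hsup : ∀ n, a ∈ fibIdeal hM hxM ⊔ Ideal.span {jel 𝒜 jL M g ^ (n + 1)} := by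
      intro n
      induction n with
      | zero =>
        rw [pow_one]
        exact mem_sup_one_of_zero _ (isHomogeneous_fibIdeal hM hxM) (sub_decompose_zero_mem hA hM hg) ha00
      | succ n ih => exact (ha (n + 1) ih).2 (hall n)
    exact ha1.1 hvφ (mem_of_forall_mem_sup _ (isHomogeneous_fibIdeal hM hxM) (hA.2 M hM g) hsup)
  obtain ⟨y, hy, hyc⟩ := exists_coeffSec p h0 haug hj0 q hjq φ hD (n + 1)
  obtain ⟨t, ht⟩ := exists_powSection hA hL D y hy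
  refine ⟨_, ⟨n, homOfSection t, rfl⟩, ?_, ?_⟩
  · change x ∈ gloc t
    rw [ht]
    obtain ⟨c, hc⟩ := exists_coeff hA hM hg (hy M hM hMD)
    refine (mem_nv_iff hA hM hg hMD hc hxM).2 ?_
    by_contra hxc
    refine hn ?_
    rw [← hyc M hM hMD, hc, mem_fibIdeal_iff hA hM hg hxM]
    by_contra hcp
    exact hxc ((mem_basicOpen_iff_notMem hM hxM c).2 hcp)
  · intro w hw
    have hw1 : w ∈ gloc t := hw
    rw [ht] at hw1
    by_contra hwO
    obtain ⟨M', hM', g', hwM', hM'D, hg'⟩ := exists_triv (L := L) hL (x := D.ι w) (W := D) w.2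
    obtain ⟨c, hc⟩ := exists_coeff hA hM' hg' (hy M' hM' hM'D)
    have hwc := (mem_nv_iff hA hM' hg' hM'D hc hwM').1 hw1
    obtain ⟨a', ha1', -, ha'⟩ := coeff_criterion p hA h0 haug hj0 q hjq hM' hg' hwM' φ hD hM'D
    set v' := (𝒜.toQCAlg.ι M' hM') (gpt hA hM' hg' hwM') with hv'
    have hv'φ : q v' ∉ C.basicOpen φ := fun h => by
      obtain ⟨u, hu, hqu⟩ := hφG h
      have e : u = ⟨v', hVmem _ (ι_gpt_notMem_range hA h0 haug hj0 hM' hg' hwM')⟩ :=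
        (V0.ι ≫ q).isOpenEmbedding.injective hqu
      subst e
      have hu' : 𝒜.toQCAlg.π v' ∈ N := hu
      rw [hv', π_ι_gpt hA hM' hg' hwM'] at hu'
      obtain ⟨w', hw', e⟩ := hu'
      exact hwO (D.ι.isOpenEmbedding.injective e ▸ hw')
    have hmem := (ha' (n + 2) (Ideal.mem_sup_left (not_not.1 fun h => hv'φ (ha1'.2 h)))).1.resolve_left (by omega)
    rw [show n + 2 - 1 = n + 1 from rfl, ← hyc M' hM' hM'D, hc, mem_fibIdeal_iff hA hM' hg' hwM'] at hmem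
    exact (mem_basicOpen_iff_notMem hM' hwM' c).1 hwc hmem

end Groth.Grauert
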