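/-
Fibre products of quasi-coherent algebras, and the scheme obtained by contracting along a map.
-/
import Groth.Agent.Limits.RelSpecColimit
import Groth.Agent.QCohMod.QCAlgSub

set_option autoImplicit false
universe u
open CategoryTheory CategoryTheory.Limits AlgebraicGeometry Opposite TopologicalSpace

set_option backward.isDefEq.respectTransparency.types false

noncomputable section

namespace Groth.Grauert

open Groth.QCohMod (BSec bres bstr bres_bres bres_bstr resFun)

variable {S : Scheme.{u}} {A B D : RelSpec.QCAlg S} (α : A ⟶ D) (β : B ⟶ D)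

theorem hom_bres {A' B' : RelSpec.QCAlg S} (φ : A' ⟶ B') {U V : S.Opens} (h : V ≤ U) (x : BSec A' U) :
    bres B' h ((φ.hom.app (op U)).hom x) = (φ.hom.app (op V)).hom (bres A' h x) :=
  (congr(($(φ.hom.naturality (homOfLE h).op)).hom x)).symm

theorem hom_bstr {A' B' : RelSpec.QCAlg S} (φ : A' ⟶ B') (U : S.Opens) (r : Γ(S, U)) :
    (φ.hom.app (op U)).hom (bstr A' U r) = bstr B' U r :=
  congr(($(NatTrans.congr_app φ.comm (op U))).hom r)

/-- Pairs of sections with the same image. -/
def fibSub (W : S.Opens) : Subring (BSec A W × BSec B W) :=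
  RingHom.eqLocus ((α.hom.app (op W)).hom.comp (RingHom.fst _ _)) ((β.hom.app (op W)).hom.comp (RingHom.snd _ _))

theorem mem_fibSub {W : S.Opens} (z : BSec A W × BSec B W) :
    z ∈ fibSub α β W ↔ (α.hom.app (op W)).hom z.1 = (β.hom.app (op W)).hom z.2 := Iff.rfl

/-- Restriction of pairs. -/
def fibRes {U V : S.Opens} (h : V ≤ U) : fibSub α β U →+* fibSub α β V :=
  RingHom.codRestrict (((bres A h).prodMap (bres B h)).comp (fibSub α β U).subtype) _ fun z => by
    have hz : (α.hom.app (op U)).hom z.1.1 = (β.hom.app (op U)).hom z.1.2 := z.2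
    rw [mem_fibSub]
    change (α.hom.app (op V)).hom (bres A h z.1.1) = (β.hom.app (op V)).hom (bres B h z.1.2)
    rw [← hom_bres α h, ← hom_bres β h, hz]

@[simp] theorem fibRes_fst {U V : S.Opens} (h : V ≤ U) (z : fibSub α β U) :
    (fibRes α β h z).1.1 = bres A h z.1.1 := rfl

@[simp] theorem fibRes_snd {U V : S.Opens} (h : V ≤ U) (z : fibSub α β U) :
    (fibRes α β h z).1.2 = bres B h z.1.2 := rfl

/-- The presheaf of pairs. -/
def fibPre : TopCat.Presheaf CommRingCat.{u} S.carrier where
  obj W := CommRingCat.of (fibSub α β W.unop)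
  map i := CommRingCat.ofHom (fibRes α β i.unop.le)
  map_id W := CommRingCat.hom_ext (RingHom.ext fun z => Subtype.ext (Prod.ext
    (Groth.QCohMod.bres_self A z.1.1) (Groth.QCohMod.bres_self B z.1.2)))
  map_comp i j := CommRingCat.hom_ext (RingHom.ext fun z => Subtype.ext (Prod.ext
    (bres_bres A i.unop.le j.unop.le z.1.1).symm (bres_bres B i.unop.le j.unop.le z.1.2).symm))

theorem isSheaf_fibPre : (fibPre α β).IsSheaf := by
  rw [TopCat.Presheaf.isSheaf_iff_isSheafUniqueGluing]
  intro ι U sf hsf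
  let glue (C : RelSpec.QCAlg S) := fun (s : ∀ i, C.presheaf.obj (op (U i))) hs =>
    (TopCat.Presheaf.isSheaf_iff_isSheafUniqueGluing _).1 C.isSheaf U s hs
  obtain ⟨a, ha, hau⟩ := glue A (fun i => (show fibSub α β (U i) from sf i).1.1)
    fun i k => congrArg (fun z : fibSub α β (U i ⊓ U k) => z.1.1) (hsf i k)
  obtain ⟨b, hb, hbu⟩ := glue B (fun i => (show fibSub α β (U i) from sf i).1.2)
    fun i k => congrArg (fun z : fibSub α β (U i ⊓ U k) => z.1.2) (hsf i k)
  have hab : (α.hom.app (op (iSup U))).hom a = (β.hom.app (op (iSup U))).hom b := by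
    refine TopCat.Sheaf.eq_of_locally_eq' (⟨D.presheaf, D.isSheaf⟩ : TopCat.Sheaf CommRingCat.{u} S.carrier)
      U (iSup U) (fun i => Opens.leSupr U i) le_rfl _ _ fun i => ?_
    change bres D (le_iSup U i) _ = bres D (le_iSup U i) _
    rw [hom_bres, hom_bres, show bres A (le_iSup U i) a = _ from ha i, show bres B (le_iSup U i) b = _ from hb i]
    exact (show fibSub α β (U i) from sf i).2
  refine ⟨(⟨(a, b), hab⟩ : fibSub α β (iSup U)), fun i => Subtype.ext (Prod.ext (ha i) (hb i)), fun z hz => ?_⟩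
  exact Subtype.ext (Prod.ext (hau _ fun i => congrArg (fun w : fibSub α β (U i) => w.1.1) (hz i))
    (hbu _ fun i => congrArg (fun w : fibSub α β (U i) => w.1.2) (hz i)))

/-- The structure map on sections. -/
def fibStrHom (W : S.Opens) : Γ(S, W) →+* fibSub α β W :=
  RingHom.codRestrict ((bstr A W).prod (bstr B W)) _ fun r =>
    (hom_bstr α W r).trans (hom_bstr β W r).symm

/-- The structure map. -/
def fibStr : S.presheaf ⟶ fibPre α β where
  app W := CommRingCat.ofHom (fibStrHom α β W.unop)
  naturality U V i := CommRingCat.hom_ext (RingHom.ext fun r => Subtype.ext (Prod.ext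
    (bres_bstr A i.unop.le r).symm (bres_bstr B i.unop.le r).symm))

theorem isLocalization_fibSub {U : S.Opens} (hU : IsAffineOpen U) (r : Γ(S, U)) :
    letI : Algebra (fibSub α β U) (fibSub α β (S.basicOpen r)) := (fibRes α β (S.basicOpen_le r)).toAlgebra
    IsLocalization.Away (fibStrHom α β U r) (fibSub α β (S.basicOpen r)) := by
  set h := S.basicOpen_le r
  letI : Algebra (fibSub α β U) (fibSub α β (S.basicOpen r)) := (fibRes α β h).toAlgebra
  letI := (bres A h).toAlgebra
  letI := (bres B h).toAlgebra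
  letI := (bres D h).toAlgebra
  haveI hA : IsLocalization.Away (bstr A U r) (BSec A (S.basicOpen r)) := A.isQC U hU r
  haveI hB : IsLocalization.Away (bstr B U r) (BSec B (S.basicOpen r)) := B.isQC U hU r
  haveI hD : IsLocalization.Away (bstr D U r) (BSec D (S.basicOpen r)) := D.isQC U hU r
  refine IsLocalization.Away.mk _ ?_ ?_ ?_
  · have hu : IsUnit (resFun S h r) := RingedSpace.isUnit_res_basicOpen S.toRingedSpace r
    have hn : fibRes α β h (fibStrHom α β U r) = fibStrHom α β (S.basicOpen r) (resFun S h r) :=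
      Subtype.ext (Prod.ext (bres_bstr A h r) (bres_bstr B h r))
    change IsUnit (fibRes α β h (fibStrHom α β U r))
    rw [hn]
    exact hu.map _
  · intro z
    obtain ⟨n, a, ha⟩ := IsLocalization.Away.surj (bstr A U r) z.1.1
    obtain ⟨m, b, hb⟩ := IsLocalization.Away.surj (bstr B U r) z.1.2
    have hd : bres D h ((α.hom.app (op U)).hom (bstr A U r ^ m * a)) =
        bres D h ((β.hom.app (op U)).hom (bstr B U r ^ n * b)) := by
      rw [hom_bres α h, hom_bres β h, map_mul, map_mul, map_mul, map_mul, map_pow, map_pow, map_pow, map_pow,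
        show bres A h a = z.1.1 * bres A h (bstr A U r) ^ n from ha.symm,
        show bres B h b = z.1.2 * bres B h (bstr B U r) ^ m from hb.symm, map_mul, map_mul, map_pow, map_pow,
        bres_bstr, bres_bstr, hom_bstr α, hom_bstr β, show (α.hom.app (op (S.basicOpen r))).hom z.1.1 = (β.hom.app (op (S.basicOpen r))).hom z.1.2 from z.2]
      ring
    obtain ⟨⟨_, k, rfl⟩, hk⟩ := IsLocalization.exists_of_eq (M := Submonoid.powers (bstr D U r))
      (S := BSec D (S.basicOpen r)) hd
    have hmem : (bstr A U r ^ (m + k) * a, bstr B U r ^ (n + k) * b) ∈ fibSub α β U := by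
      rw [mem_fibSub]
      simp only [map_mul, map_pow, hom_bstr α, hom_bstr β] at hk ⊢
      rw [pow_add, pow_add]
      linear_combination hk
    refine ⟨n + m + k, ⟨_, hmem⟩, Subtype.ext (Prod.ext ?_ ?_)⟩
    · change z.1.1 * bres A h (bstr A U r) ^ (n + m + k) = bres A h (bstr A U r ^ (m + k) * a)
      rw [map_mul, map_pow, show bres A h a = _ from ha.symm]
      change _ = bres A h (bstr A U r) ^ (m + k) * (z.1.1 * bres A h (bstr A U r) ^ n)
      ring
    · change z.1.2 * bres B h (bstr B U r) ^ (n + m + k) = bres B h (bstr B U r ^ (n + k) * b)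
      rw [map_mul, map_pow, show bres B h b = _ from hb.symm]
      change _ = bres B h (bstr B U r) ^ (n + k) * (z.1.2 * bres B h (bstr B U r) ^ m)
      ring
  · intro x y hxy
    have h1 : bres A h x.1.1 = bres A h y.1.1 := congrArg (fun w : fibSub α β (S.basicOpen r) => w.1.1) hxy
    have h2 : bres B h x.1.2 = bres B h y.1.2 := congrArg (fun w : fibSub α β (S.basicOpen r) => w.1.2) hxy
    obtain ⟨⟨_, i, rfl⟩, hi⟩ := IsLocalization.exists_of_eq (M := Submonoid.powers (bstr A U r))
      (S := BSec A (S.basicOpen r)) h1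
    obtain ⟨⟨_, k, rfl⟩, hk⟩ := IsLocalization.exists_of_eq (M := Submonoid.powers (bstr B U r))
      (S := BSec B (S.basicOpen r)) h2
    refine ⟨i + k, Subtype.ext (Prod.ext ?_ ?_)⟩
    · change bstr A U r ^ (i + k) * x.1.1 = bstr A U r ^ (i + k) * y.1.1
      simp only at hi
      rw [pow_add]
      linear_combination (bstr A U r ^ k) * hi
    · change bstr B U r ^ (i + k) * x.1.2 = bstr B U r ^ (i + k) * y.1.2
      simp only at hk
      rw [pow_add]
      linear_combination (bstr B U r ^ i) * hk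

theorem isQC_fibPre : RelSpec.IsQC (fibPre α β) (fibStr α β) := fun _ hU r => isLocalization_fibSub α β hU r

/-- The fibre product of two quasi-coherent algebras over a third. -/
def fib : RelSpec.QCAlg S where
  presheaf := fibPre α β
  isSheaf := isSheaf_fibPre α β
  str := fibStr α β
  isQC := isQC_fibPre α β

/-- The first projection. -/
def fibFst : fib α β ⟶ A where
  hom := { app := fun W => CommRingCat.ofHom ((RingHom.fst _ _).comp (fibSub α β W.unop).subtype)
           naturality := fun _ _ _ => rfl }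
  comm := rfl

/-- The second projection. -/
def fibSnd : fib α β ⟶ B where
  hom := { app := fun W => CommRingCat.ofHom ((RingHom.snd _ _).comp (fibSub α β W.unop).subtype)
           naturality := fun _ _ _ => rfl }
  comm := rfl

theorem fib_sec_mem {W : S.Opens} (b : BSec (fib α β) W) :
    (α.hom.app (op W)).hom (((fibFst α β).hom.app (op W)).hom b) =
      (β.hom.app (op W)).hom (((fibSnd α β).hom.app (op W)).hom b) :=
  (show fibSub α β W from b).2

theorem fib_ext {W : S.Opens} {b b' : BSec (fib α β) W}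
    (h1 : ((fibFst α β).hom.app (op W)).hom b = ((fibFst α β).hom.app (op W)).hom b')
    (h2 : ((fibSnd α β).hom.app (op W)).hom b = ((fibSnd α β).hom.app (op W)).hom b') : b = b' :=
  (Subtype.ext (Prod.ext h1 h2) : (show fibSub α β W from b) = (show fibSub α β W from b'))

theorem fib_exists {W : S.Opens} (a : BSec A W) (b : BSec B W)
    (h : (α.hom.app (op W)).hom a = (β.hom.app (op W)).hom b) :
    ∃ c : BSec (fib α β) W,
      ((fibFst α β).hom.app (op W)).hom c = a ∧ ((fibSnd α β).hom.app (op W)).hom c = b :=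
  ⟨(⟨(a, b), h⟩ : fibSub α β W), rfl, rfl⟩

section maps

variable {X V : Scheme.{u}} (ρ : V ⟶ S) [QuasiCompact ρ] [QuasiSeparated ρ] (p : X ⟶ S) [QuasiCompact p]
  [QuasiSeparated p] (j : X ⟶ V) (hj : j ≫ ρ = p)

include hj in
theorem preimage_le (W : S.Opens) : p ⁻¹ᵁ W ≤ j ⁻¹ᵁ (ρ ⁻¹ᵁ W) := by
  rw [← Scheme.Hom.comp_preimage, hj]

/-- Pullback of functions as a map of direct image algebras. -/
def pullHom : RelSpec.QCAlg.directImage ρ ⟶ RelSpec.QCAlg.directImage p where
  hom :=
    { app := fun W => j.appLE (ρ ⁻¹ᵁ W.unop) (p ⁻¹ᵁ W.unop) (preimage_le ρ p j hj W.unop)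
      naturality := fun W W' i => by
        change V.presheaf.map _ ≫ j.appLE _ _ _ = j.appLE _ _ _ ≫ X.presheaf.map _
        rw [Scheme.Hom.map_appLE, Scheme.Hom.appLE_map] }
  comm := by
    subst hj
    refine NatTrans.ext (funext fun W => ?_)
    change ρ.app W.unop ≫ j.appLE (ρ ⁻¹ᵁ W.unop) _ _ = (j ≫ ρ).app W.unop
    rw [Scheme.Hom.app_eq_appLE, Scheme.Hom.app_eq_appLE, Scheme.Hom.appLE_comp_appLE]

variable {ρ p j hj} {E : RelSpec.QCAlg S}

theorem toSpecΓ_appLE {U : V.Opens} {U' : X.Opens} (e : U' ≤ j ⁻¹ᵁ U) :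
    U'.toSpecΓ ≫ Spec.map (j.appLE U U' e) = j.resLE U U' e ≫ U.toSpecΓ := by
  rw [Scheme.Hom.appLE, Spec.map_comp, ← Category.assoc, Scheme.Opens.toSpecΓ_SpecMap_presheaf_map,
    Category.assoc, Scheme.Opens.toSpecΓ_naturality, Scheme.Hom.resLE, Category.assoc]

theorem isLift_comp {φ : E ⟶ RelSpec.QCAlg.directImage ρ} {v : V ⟶ E.spec}
    (hv : Groth.Limits.RelSpecColimit.IsLift ρ φ v) :
    Groth.Limits.RelSpecColimit.IsLift p (φ ≫ pullHom ρ p j hj) (j ≫ v) := by
  intro U hU
  have e := preimage_le ρ p j hj U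
  rw [← Scheme.Hom.resLE_comp_ι_assoc j e, hv U hU, ← Category.assoc, ← toSpecΓ_appLE e]
  simp only [Category.assoc, ← Spec.map_comp_assoc]
  rfl

end maps

end Groth.Grauert
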