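/-
Contraction of a closed subscheme along the base: the relative spectrum of the functions that are constant on it.
-/
import Groth.Agent.Grauert.FibreAlg
import Groth.Agent.Ega2Proj.QAffFactor
import Groth.Agent.RLpsi.Criteria

set_option autoImplicit false
universe u
open CategoryTheory CategoryTheory.Limits AlgebraicGeometry Opposite TopologicalSpace

set_option backward.isDefEq.respectTransparency.types false

noncomputable section

namespace Groth.Grauert.Cone

open Groth.QCohMod (BSec bres bstr resFun)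
open Groth.Limits.RelSpecColimit

variable {X V Y : Scheme.{u}} (ρ : V ⟶ Y) [QuasiCompact ρ] [QuasiSeparated ρ] (p : X ⟶ Y) [QuasiCompact p]
  [QuasiSeparated p] (j : X ⟶ V) (hj : j ≫ ρ = p)

/-- The structure sheaf as functions on the identity. -/
def unitToId : RelSpec.QCAlg.unit Y ⟶ RelSpec.QCAlg.directImage (𝟙 Y) where
  hom := (𝟙 Y : Y ⟶ Y).c
  comm := Category.id_comp _

/-- The structure map of the direct image. -/
def baseHom : RelSpec.QCAlg.unit Y ⟶ RelSpec.QCAlg.directImage p where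
  hom := p.c
  comm := Category.id_comp _

/-- The functions on `V` constant along `X`. -/
def alg : RelSpec.QCAlg Y := fib (pullHom ρ p j hj) (baseHom p)

/-- The map from `V`. -/
def toCone : V ⟶ (alg ρ p j hj).spec := (exists_isLift ρ (fibFst (pullHom ρ p j hj) (baseHom p))).choose

theorem isLift_toCone : IsLift ρ (fibFst (pullHom ρ p j hj) (baseHom p)) (toCone ρ p j hj) :=
  (exists_isLift ρ (fibFst (pullHom ρ p j hj) (baseHom p))).choose_spec

/-- The vertex. -/
def vertex : Y ⟶ (alg ρ p j hj).spec :=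
  (exists_isLift (𝟙 Y) (fibSnd (pullHom ρ p j hj) (baseHom p) ≫ unitToId)).choose

theorem isLift_vertex :
    IsLift (𝟙 Y) (fibSnd (pullHom ρ p j hj) (baseHom p) ≫ unitToId) (vertex ρ p j hj) :=
  (exists_isLift (𝟙 Y) (fibSnd (pullHom ρ p j hj) (baseHom p) ≫ unitToId)).choose_spec

theorem toCone_π : toCone ρ p j hj ≫ (alg ρ p j hj).π = ρ := (isLift_toCone ρ p j hj).comp_π

theorem vertex_π : vertex ρ p j hj ≫ (alg ρ p j hj).π = 𝟙 Y := (isLift_vertex ρ p j hj).comp_π

theorem j_toCone : j ≫ toCone ρ p j hj = p ≫ vertex ρ p j hj := by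
  have h1 := isLift_comp (p := p) (hj := hj) (isLift_toCone ρ p j hj)
  have h2 := isLift_comp (p := p) (j := p) (hj := Category.comp_id p) (isLift_vertex ρ p j hj)
  have e : fibFst (pullHom ρ p j hj) (baseHom p) ≫ pullHom ρ p j hj =
      (fibSnd (pullHom ρ p j hj) (baseHom p) ≫ unitToId) ≫ pullHom (𝟙 Y) p p (Category.comp_id p) := by
    refine RelSpec.QCAlg.hom_ext (NatTrans.ext (funext fun W => CommRingCat.hom_ext (RingHom.ext fun b => ?_)))
    refine (fib_sec_mem (pullHom ρ p j hj) (baseHom p) (W := W.unop) b).trans ?_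
    change (p.app W.unop).hom _ = ((𝟙 Y : Y ⟶ Y).app W.unop ≫ p.appLE _ _ _).hom _
    rw [Scheme.Hom.app_eq_appLE, Scheme.Hom.app_eq_appLE, Scheme.Hom.appLE_comp_appLE]
    congr 2
  rw [← e] at h2
  exact h1.unique h2

variable {U : Y.Opens} (hU : IsAffineOpen U)

/-- A section as a function on the cone. -/
theorem exists_fun (c : BSec (alg ρ p j hj) U) : ∃ c' : Γ((alg ρ p j hj).spec, (alg ρ p j hj).π ⁻¹ᵁ U),
    (alg ρ p j hj).gammaAff U hU c' = c := by
  have := Groth.Ega2P2.isIso_gammaAff (alg ρ p j hj) U hU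
  exact (ConcreteCategory.bijective_of_isIso ((alg ρ p j hj).gammaAff U hU)).2 c

theorem preimage_toCone : toCone ρ p j hj ⁻¹ᵁ ((alg ρ p j hj).π ⁻¹ᵁ U) = ρ ⁻¹ᵁ U := by
  rw [← Scheme.Hom.comp_preimage, toCone_π]

theorem preimage_vertex : vertex ρ p j hj ⁻¹ᵁ ((alg ρ p j hj).π ⁻¹ᵁ U) = U := by
  rw [← Scheme.Hom.comp_preimage, vertex_π]
  rfl

theorem appLE_toCone (b : Γ((alg ρ p j hj).spec, (alg ρ p j hj).π ⁻¹ᵁ U)) :
    (toCone ρ p j hj).appLE _ (ρ ⁻¹ᵁ U) (preimage_toCone ρ p j hj).ge b =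
      ((fibFst (pullHom ρ p j hj) (baseHom p)).hom.app (op U)).hom ((alg ρ p j hj).gammaAff U hU b) :=
  Groth.Ega2Proj.QAff.lift_appLE (isLift_toCone ρ p j hj) hU _ b

theorem preimage_basicOpen_toCone (b : Γ((alg ρ p j hj).spec, (alg ρ p j hj).π ⁻¹ᵁ U)) :
    toCone ρ p j hj ⁻¹ᵁ (alg ρ p j hj).spec.basicOpen b =
      V.basicOpen (((fibFst (pullHom ρ p j hj) (baseHom p)).hom.app (op U)).hom
        ((alg ρ p j hj).gammaAff U hU b) : Γ(V, ρ ⁻¹ᵁ U)) := by
  rw [← appLE_toCone ρ p j hj hU b]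
  refine Eq.trans ?_ (Scheme.basicOpen_appLE _ _ _ _ b).symm
  exact (inf_eq_right.2 (((toCone ρ p j hj).preimage_mono ((alg ρ p j hj).spec.basicOpen_le _)).trans
    (preimage_toCone ρ p j hj).le)).symm

theorem preimage_basicOpen_vertex (b : Γ((alg ρ p j hj).spec, (alg ρ p j hj).π ⁻¹ᵁ U)) :
    vertex ρ p j hj ⁻¹ᵁ (alg ρ p j hj).spec.basicOpen b =
      Y.basicOpen (((fibSnd (pullHom ρ p j hj) (baseHom p)).hom.app (op U)).hom
        ((alg ρ p j hj).gammaAff U hU b) : Γ(Y, U)) := by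
  have h := Groth.Ega2Proj.QAff.lift_appLE (isLift_vertex ρ p j hj) hU
    (preimage_vertex ρ p j hj).ge b
  have h2 : Y.basicOpen ((vertex ρ p j hj).appLE _ ((𝟙 Y : Y ⟶ Y) ⁻¹ᵁ U) (preimage_vertex ρ p j hj).ge b) =
      vertex ρ p j hj ⁻¹ᵁ (alg ρ p j hj).spec.basicOpen b := by
    refine (Scheme.basicOpen_appLE _ _ _ _ b).trans ?_
    exact inf_eq_right.2 (((vertex ρ p j hj).preimage_mono ((alg ρ p j hj).spec.basicOpen_le _)).trans
      (preimage_vertex ρ p j hj).le)
  exact h2.symm.trans (congrArg Y.basicOpen h)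

include hU in
/-- Functions vanishing on `X` whose nonvanishing locus is affine give pieces mapped isomorphically. -/
theorem exists_piece (hU' : IsQuasiSeparated ((ρ ⁻¹ᵁ U : V.Opens) : Set V)) (s : Γ(V, ρ ⁻¹ᵁ U))
    (hs : ((pullHom ρ p j hj).hom.app (op U)).hom s = 0) (haff : IsAffineOpen (V.basicOpen s)) :
    ∃ D : (alg ρ p j hj).spec.Opens, IsIso (toCone ρ p j hj ∣_ D) ∧
      toCone ρ p j hj ⁻¹ᵁ D = V.basicOpen s ∧ vertex ρ p j hj ⁻¹ᵁ D = ⊥ := by
  let A := alg ρ p j hj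
  let q := toCone ρ p j hj
  let φ : BSec (fib (pullHom ρ p j hj) (baseHom p)) U →+* Γ(V, ρ ⁻¹ᵁ U) :=
    ((fibFst (pullHom ρ p j hj) (baseHom p)).hom.app (op U)).hom
  let ψ := ((fibSnd (pullHom ρ p j hj) (baseHom p)).hom.app (op U)).hom
  have hUc : IsCompact ((ρ ⁻¹ᵁ U : V.Opens) : Set V) := ρ.isCompact_preimage hU.isCompact
  obtain ⟨b, hb1, hb2⟩ := fib_exists (pullHom ρ p j hj) (baseHom p) (W := U) s 0
    (hs.trans (map_zero _).symm)
  obtain ⟨b', hb'⟩ := exists_fun ρ p j hj hU b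
  have hpre : q ⁻¹ᵁ A.spec.basicOpen b' = V.basicOpen s := by
    rw [preimage_basicOpen_toCone ρ p j hj hU b', hb', hb1]
  refine ⟨A.spec.basicOpen b', ?_, hpre, ?_⟩
  swap
  · rw [preimage_basicOpen_vertex ρ p j hj hU b', hb', hb2]
    exact Scheme.basicOpen_zero _ _
  have hA : IsAffineOpen (A.π ⁻¹ᵁ U) := hU.preimage A.π
  let D := A.spec.basicOpen b'
  let Q := V.basicOpen s
  let rD := (A.spec.presheaf.map (homOfLE (A.spec.basicOpen_le b')).op).hom
  let rQ := (V.presheaf.map (homOfLE (V.basicOpen_le s)).op).hom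
  let w := (q.appLE D Q hpre.ge).hom
  have hw : ∀ x, w (rD x) = rQ (φ (A.gammaAff U hU x)) := by
    intro x
    change _ = rQ (((fibFst (pullHom ρ p j hj) (baseHom p)).hom.app (op U)).hom ((alg ρ p j hj).gammaAff U hU x))
    rw [← appLE_toCone ρ p j hj hU x]
    refine (congr(($(q.map_appLE hpre.ge (homOfLE (A.spec.basicOpen_le b')).op)).hom x)).trans ?_
    exact (congr(($(q.appLE_map (preimage_toCone ρ p j hj).ge (homOfLE (V.basicOpen_le s)).op)).hom x)).symm
  have hrDs : IsUnit (rD b') := RingedSpace.isUnit_res_basicOpen _ _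
  letI := rD.toAlgebra
  haveI : IsLocalization.Away b' Γ(A.spec, D) := hA.isLocalization_basicOpen b'
  letI := rQ.toAlgebra
  haveI : IsLocalization.Away s Γ(V, Q) := isLocalization_basicOpen_of_qcqs hUc hU' s
  have hws : w (rD b') = rQ s := by
    rw [hw, hb']
    exact congrArg rQ hb1
  have hbij : Function.Bijective w := by
    refine ⟨(injective_iff_map_eq_zero w).2 fun z hz => ?_, fun z => ?_⟩
    · obtain ⟨n, c', hc'⟩ := IsLocalization.Away.surj b' z
      change z * rD b' ^ n = rD c' at hc'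
      let g : Γ(A.spec, A.π ⁻¹ᵁ U) →+* BSec (fib (pullHom ρ p j hj) (baseHom p)) U := (A.gammaAff U hU).hom
      have h1 : rQ (φ (g c')) = 0 := (hw c').symm.trans (by rw [← hc', map_mul, hz, zero_mul])
      obtain ⟨⟨_, k, rfl⟩, hk⟩ := IsLocalization.exists_of_eq (M := Submonoid.powers s) (S := Γ(V, Q))
        (h1.trans (map_zero rQ).symm)
      simp only [mul_zero] at hk
      have h2 : b ^ (k + 1) * g c' = 0 := by
        refine fib_ext (pullHom ρ p j hj) (baseHom p) ?_ ?_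
        · change φ (b ^ (k + 1) * g c') = φ 0
          rw [map_mul, map_pow, map_zero, show φ b = s from hb1, pow_succ', mul_assoc, hk, mul_zero]
        · change ψ (b ^ (k + 1) * g c') = ψ 0
          rw [map_mul, map_pow, map_zero, show ψ b = 0 from hb2, pow_succ', zero_mul, zero_mul]
      rw [show b = g b' from hb'.symm, ← map_pow, ← map_mul] at h2
      have := Groth.Ega2P2.isIso_gammaAff A U hU
      have h3 : b' ^ (k + 1) * c' = 0 :=
        (ConcreteCategory.bijective_of_isIso (A.gammaAff U hU)).1 (h2.trans (map_zero g).symm)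
      have h4 : rD b' ^ (k + 1) * rD c' = 0 := by rw [← map_pow, ← map_mul, h3, map_zero]
      rw [← hc', ← mul_assoc, mul_comm (rD b' ^ (k + 1)), mul_assoc, ← pow_add] at h4
      exact (hrDs.pow _).mul_left_eq_zero.1 h4
    · obtain ⟨n, f, hf⟩ := IsLocalization.Away.surj s z
      change z * rQ s ^ n = rQ f at hf
      obtain ⟨c, hc1, -⟩ := fib_exists (pullHom ρ p j hj) (baseHom p) (W := U) (f * s) 0
        ((map_mul ((pullHom ρ p j hj).hom.app (op U)).hom f s).trans ((mul_eq_zero_of_right _ hs).trans (map_zero _).symm))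
      obtain ⟨c', hc'⟩ := exists_fun ρ p j hj hU c
      obtain ⟨e, he⟩ := hrDs
      refine ⟨rD c' * (↑e⁻¹ : Γ(A.spec, D)) ^ (n + 1), ?_⟩
      have h1 : w (rD c') = rQ f * rQ s := by
        rw [hw, hc', show φ c = f * s from hc1, map_mul]
      have h2 : rQ s * w (↑e⁻¹ : Γ(A.spec, D)) = 1 := by
        rw [← hws, ← map_mul, ← he, Units.mul_inv, map_one]
      rw [map_mul, map_pow, h1, ← hf, mul_assoc z, ← pow_succ, mul_assoc, ← mul_pow, h2, one_pow, mul_one]
  have key : ∀ (W : V.Opens) (e : q ⁻¹ᵁ D = W) (_ : IsAffineOpen W),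
      Function.Bijective (q.appLE D W e.ge).hom → IsIso (q ∣_ D) := by
    rintro W rfl hW hb
    haveI : IsAffine (D : Scheme.{u}) := hA.basicOpen b'
    haveI : IsAffine ((q ⁻¹ᵁ D : V.Opens) : Scheme.{u}) := hW
    rw [← Scheme.Hom.resLE_eq_morphismRestrict]
    refine Groth.RLpsi.bijective_appTop_iso _ ?_
    rw [Scheme.Hom.appTop, Scheme.Hom.resLE_app_top]
    exact (ConcreteCategory.bijective_of_isIso (q ⁻¹ᵁ D).topIso.inv).comp
      (hb.comp (ConcreteCategory.bijective_of_isIso D.topIso.hom))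
  exact key Q hpre haff hbij

/-- The open covered by such pieces maps by an open immersion avoiding the vertex. -/
theorem open_part (V0 : V.Opens) (h : ∀ z ∈ V0, ∃ (U : Y.Opens) (_ : IsAffineOpen U) (s : Γ(V, ρ ⁻¹ᵁ U)),
      IsQuasiSeparated ((ρ ⁻¹ᵁ U : V.Opens) : Set V) ∧ ((pullHom ρ p j hj).hom.app (op U)).hom s = 0 ∧
      IsAffineOpen (V.basicOpen s) ∧ V.basicOpen s ≤ V0 ∧ z ∈ V.basicOpen s) :
    IsOpenImmersion (V0.ι ≫ toCone ρ p j hj) ∧
      Set.range (V0.ι ≫ toCone ρ p j hj).base ∩ Set.range (vertex ρ p j hj).base = ∅ := by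
  choose U hU s hU' hs haff hle hz using fun z : V0 => h z.1 z.2
  choose D hD hpre hbot using fun z : V0 => exists_piece ρ p j hj (hU z) (hU' z) (s z) (hs z) (haff z)
  have hmem : ∀ z : V0, toCone ρ p j hj z.1 ∈ D z := fun z => (hpre z).ge (hz z)
  refine ⟨Groth.RLpsi.isOpenImmersion_of_cover_range _ D (fun z => ⟨z, hmem z⟩) fun i => ?_, ?_⟩
  · haveI := hD i
    rw [morphismRestrict_comp]
    haveI h1 : IsOpenImmersion (toCone ρ p j hj ∣_ D i) := inferInstance
    haveI h2 : IsOpenImmersion (V0.ι ∣_ toCone ρ p j hj ⁻¹ᵁ D i) :=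
      IsZariskiLocalAtTarget.restrict (P := @IsOpenImmersion) inferInstance _
    exact @IsOpenImmersion.comp _ _ _ _ _ h2 h1
  · refine Set.eq_empty_iff_forall_notMem.2 ?_
    rintro _ ⟨⟨z, rfl⟩, y, hy⟩
    have h1 : y ∈ vertex ρ p j hj ⁻¹ᵁ D z := by
      change vertex ρ p j hj y ∈ D z
      rw [hy]
      exact hmem z
    rw [hbot] at h1
    exact h1

/-- The images of `V` and of the vertex are dense, so cover the cone once they are closed. -/
theorem range_union_eq_univ (h : IsClosed (Set.range (toCone ρ p j hj).base))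
    (h' : IsClosed (Set.range (vertex ρ p j hj).base)) :
    Set.range (toCone ρ p j hj).base ∪ Set.range (vertex ρ p j hj).base = Set.univ := by
  refine Set.eq_univ_of_forall fun c => ?_
  by_contra hc
  let A := alg ρ p j hj
  let W : A.spec.Opens := ⟨_, (h.union h').isOpen_compl⟩
  obtain ⟨U, hU, hcU, -⟩ := exists_isAffineOpen_mem_and_subset (x := A.π c) (U := (⊤ : Y.Opens)) trivial
  obtain ⟨b', hb'W, hcb⟩ := (hU.preimage A.π).exists_basicOpen_le (V := W) ⟨c, hc⟩ hcU
  have hW : ∀ w, A.spec.basicOpen b' ≤ W → w ∈ A.spec.basicOpen b' →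
      w ∉ Set.range (toCone ρ p j hj).base ∪ Set.range (vertex ρ p j hj).base := fun w hle hw => hle hw
  have h1 : toCone ρ p j hj ⁻¹ᵁ A.spec.basicOpen b' = ⊥ :=
    eq_bot_iff.2 fun z hz => hW _ hb'W hz (Or.inl ⟨z, rfl⟩)
  have h2 : vertex ρ p j hj ⁻¹ᵁ A.spec.basicOpen b' = ⊥ :=
    eq_bot_iff.2 fun z hz => hW _ hb'W hz (Or.inr ⟨z, rfl⟩)
  rw [preimage_basicOpen_toCone ρ p j hj hU b'] at h1
  rw [preimage_basicOpen_vertex ρ p j hj hU b'] at h2
  obtain ⟨m, hm⟩ := (Scheme.isNilpotent_iff_basicOpen_eq_bot_of_isCompact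
    (ρ.isCompact_preimage hU.isCompact) _).2 h1
  obtain ⟨n, hn⟩ := (Scheme.isNilpotent_iff_basicOpen_eq_bot_of_isCompact hU.isCompact _).2 h2
  have h3 : (A.gammaAff U hU b') ^ (m + n) = 0 := by
    refine fib_ext (pullHom ρ p j hj) (baseHom p) ?_ ?_
    · refine ((map_pow _ _ _).trans ?_).trans (map_zero _).symm
      rw [pow_add]
      exact (mul_eq_zero_of_left hm _)
    · refine ((map_pow _ _ _).trans ?_).trans (map_zero _).symm
      rw [pow_add]
      exact (mul_eq_zero_of_right _ hn)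
  have := Groth.Ega2P2.isIso_gammaAff A U hU
  have h4 : b' ^ (m + n) = 0 :=
    (ConcreteCategory.bijective_of_isIso (A.gammaAff U hU)).1 (((map_pow _ _ _).trans h3).trans (map_zero _).symm)
  exact (A.spec.basicOpen_eq_bot_of_isNilpotent _ b' ⟨m + n, h4⟩).le hcb

end Groth.Grauert.Cone
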