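/-
Sections of powers of a relatively ample module give functions on the bundle vanishing on the zero section with
affine nonvanishing locus (EGA II 8.9.1, the converse part).
-/
import Groth.Agent.Grauert.Criterion
import Groth.Agent.Grauert.Cone
import Groth.Agent.RLpsi.Sections

set_option autoImplicit false
universe u
open CategoryTheory CategoryTheory.Limits AlgebraicGeometry Opposite TopologicalSpace
open scoped HomogeneousIdeal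

set_option backward.isDefEq.respectTransparency.types false

noncomputable section

namespace Groth.Grauert.Pieces

open Groth.PicAux Groth.RLpsi Groth.RelTw Groth.PropsBasic.Ample

variable {X : Scheme.{u}} {L : X.Modules} [L.IsQuasicoherent]
  {𝒜 : RelProj.QCGrAlg X} {jL : L ⟶ 𝒜.toModule} (hA : RelProj.IsGrSymAlg L 𝒜 jL)
  (h0 : RelCone.StrZeroBij 𝒜)
  {aug : 𝒜.toQCAlg ⟶ RelSpec.QCAlg.unit X} (haug : RelCone.IsAugmentation 𝒜 aug)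
  {j0 : X ⟶ 𝒜.toQCAlg.spec} (hj0 : RelCone.IsVertex 𝒜 aug j0)

omit [L.IsQuasicoherent] in
theorem gammaAff_res {D M : X.Opens} (hM : IsAffineOpen M) (h : M ≤ D)
    (s : Γ(𝒜.toQCAlg.spec, 𝒜.toQCAlg.π ⁻¹ᵁ D)) :
    𝒜.toQCAlg.gammaAff M hM (𝒜.toQCAlg.spec.presheaf.map (homOfLE (𝒜.toQCAlg.π.preimage_mono h)).op s) =
      rs 𝒜 h ((𝒜.toQCAlg.gammaMap.app (op D)).hom s) := by
  rw [← 𝒜.toQCAlg.gammaMap_app M hM]
  exact congr(($(𝒜.toQCAlg.gammaMap.naturality (homOfLE h).op)).hom s)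

omit [L.IsQuasicoherent] in
theorem exists_section (D : X.Opens) (y : 𝒜.presheaf.obj (op D)) :
    ∃ s : Γ(𝒜.toQCAlg.spec, 𝒜.toQCAlg.π ⁻¹ᵁ D), (𝒜.toQCAlg.gammaMap.app (op D)).hom s = y := by
  have := Groth.Ega2P2.isIso_gammaMap 𝒜.toQCAlg
  exact (ConcreteCategory.bijective_of_isIso (𝒜.toQCAlg.gammaMap.app (op D))).2 y

omit [L.IsQuasicoherent] in
theorem ι_mem_preimage {M : X.Opens} (hM : IsAffineOpen M) (w : Spec (𝒜.presheaf.obj (op M))) :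
    (𝒜.toQCAlg.ι M hM) w ∈ 𝒜.toQCAlg.π ⁻¹ᵁ M :=
  (𝒜.toQCAlg.top_le_preimage M hM) (x := w) trivial

omit [L.IsQuasicoherent] in
theorem exists_ι_eq {M : X.Opens} (hM : IsAffineOpen M) {z : 𝒜.toQCAlg.spec} (hz : 𝒜.toQCAlg.π z ∈ M) :
    ∃ w, (𝒜.toQCAlg.ι M hM) w = z := by
  have h : z ∈ 𝒜.toQCAlg.π ⁻¹ᵁ M := hz
  rw [𝒜.toQCAlg.π_preimage M hM] at h
  exact h

omit [L.IsQuasicoherent] in
theorem mem_basicOpen_ι_iff {D M : X.Opens} (hM : IsAffineOpen M) (h : M ≤ D)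
    (s : Γ(𝒜.toQCAlg.spec, 𝒜.toQCAlg.π ⁻¹ᵁ D)) (w : Spec (𝒜.presheaf.obj (op M))) :
    (𝒜.toQCAlg.ι M hM) w ∈ 𝒜.toQCAlg.spec.basicOpen s ↔
      rs 𝒜 h ((𝒜.toQCAlg.gammaMap.app (op D)).hom s) ∉ w.asIdeal := by
  rw [← gammaAff_res hM h s]
  set s' := 𝒜.toQCAlg.spec.presheaf.map (homOfLE (𝒜.toQCAlg.π.preimage_mono h)).op s
  have e1 : (𝒜.toQCAlg.ι M hM) w ∈ 𝒜.toQCAlg.spec.basicOpen s ↔
      (𝒜.toQCAlg.ι M hM) w ∈ 𝒜.toQCAlg.spec.basicOpen s' := by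
    rw [show 𝒜.toQCAlg.spec.basicOpen s' = 𝒜.toQCAlg.π ⁻¹ᵁ M ⊓ 𝒜.toQCAlg.spec.basicOpen s from
      𝒜.toQCAlg.spec.basicOpen_res s _]
    exact ⟨fun hw => ⟨ι_mem_preimage hM w, hw⟩, fun hw => hw.2⟩
  refine e1.trans ?_
  have h1 : (Spec (𝒜.presheaf.obj (op M))).basicOpen
      ((𝒜.toQCAlg.ι M hM).appLE _ ⊤ (𝒜.toQCAlg.top_le_preimage M hM) s') =
      PrimeSpectrum.basicOpen (𝒜.toQCAlg.gammaAff M hM s') := basicOpen_eq_of_affine' _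
  rw [← PrimeSpectrum.mem_basicOpen, ← h1, Scheme.basicOpen_appLE, top_inf_eq]
  rfl

omit [L.IsQuasicoherent] in
theorem π_ι_mem_basicOpen_iff {M : X.Opens} (hM : IsAffineOpen M) (c : Γ(X, M))
    (w : Spec (𝒜.presheaf.obj (op M))) :
    𝒜.toQCAlg.π ((𝒜.toQCAlg.ι M hM) w) ∈ X.basicOpen c ↔ sc 𝒜 M c ∉ w.asIdeal := by
  rw [← Scheme.Hom.comp_apply, 𝒜.toQCAlg.ι_π M hM, Scheme.Hom.comp_apply]
  change Spec.map (𝒜.toQCAlg.str.app (op M)) w ∈ hM.fromSpec ⁻¹ᵁ X.basicOpen c ↔ _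
  rw [hM.fromSpec_preimage_basicOpen]
  rfl

include hA h0 haug hj0 in
theorem mem_range_vertex_iff {M : X.Opens} (hM : IsAffineOpen M) {g : Γ(L, M)} (hg : Gen L M g)
    (w : Spec (𝒜.presheaf.obj (op M))) :
    (𝒜.toQCAlg.ι M hM) w ∈ Set.range j0.base ↔ jel 𝒜 jL M g ∈ w.asIdeal := by
  refine (Groth.Ega2P2.chart_mem_range_vertex_iff 𝒜 aug h0 haug hj0 M hM w).trans
    ((PrimeSpectrum.mem_zeroLocus _ _).trans ⟨fun h => h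
      (HomogeneousIdeal.mem_irrelevant_of_mem _ Nat.one_pos (hA.2 M hM g)), fun h a ha => ?_⟩)
  have ha0 : (DirectSum.decompose (𝒜.deg M hM) a 0 : 𝒜.presheaf.obj (op M)) = 0 :=
    (HomogeneousIdeal.mem_irrelevant_iff _ _).mp ha
  have h1 := sub_decompose_zero_mem hA hM hg a
  rw [ha0, sub_zero] at h1
  exact (Ideal.span_singleton_le_iff_mem _).2 h h1

include hA in
theorem mem_piece_iff {D M : X.Opens} (hM : IsAffineOpen M) {g : Γ(L, M)} (h : M ≤ D)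
    {s : Γ(𝒜.toQCAlg.spec, 𝒜.toQCAlg.π ⁻¹ᵁ D)} {n : ℕ} {c : Γ(X, M)}
    (hc : rs 𝒜 h ((𝒜.toQCAlg.gammaMap.app (op D)).hom s) = sc 𝒜 M c * jel 𝒜 jL M g ^ (n + 1))
    (w : Spec (𝒜.presheaf.obj (op M))) :
    (𝒜.toQCAlg.ι M hM) w ∈ 𝒜.toQCAlg.spec.basicOpen s ↔
      𝒜.toQCAlg.π ((𝒜.toQCAlg.ι M hM) w) ∈ X.basicOpen c ∧ jel 𝒜 jL M g ∉ w.asIdeal := by
  rw [mem_basicOpen_ι_iff hM h s w, hc, π_ι_mem_basicOpen_iff hM c w, ← not_or]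
  refine not_congr ⟨fun h => (w.2.mem_or_mem h).imp_right (w.2.mem_of_pow_mem (n + 1)), ?_⟩
  rintro (h | h)
  · exact Ideal.mul_mem_right _ _ h
  · exact Ideal.mul_mem_left _ _ (Ideal.pow_mem_of_mem _ h _ n.succ_pos)

include hj0 in
omit [L.IsQuasicoherent] in
theorem appLE_vertex {M : X.Opens} (hM : IsAffineOpen M) (e : M ≤ j0 ⁻¹ᵁ (𝒜.toQCAlg.π ⁻¹ᵁ M)) :
    j0.appLE (𝒜.toQCAlg.π ⁻¹ᵁ M) M e = 𝒜.toQCAlg.gammaAff M hM ≫ aug.hom.app (op M) := by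
  refine Spec.map_injective ((cancel_mono (hM.preimage 𝒜.toQCAlg.π).fromSpec).1 ?_)
  rw [IsAffineOpen.SpecMap_appLE_fromSpec j0 (hM.preimage 𝒜.toQCAlg.π) hM, hj0.chart M hM,
    ι_eq_fromSpec 𝒜.toQCAlg M hM]
  exact ((congrArg (· ≫ _) (Spec.map_comp _ _)).trans (Category.assoc _ _ _)).symm

variable {Y : Scheme.{u}} (p : X ⟶ Y) (hL : PicF.IsInvertible L)
  {V0 : 𝒜.toQCAlg.spec.Opens} (hV0 : (V0 : Set 𝒜.toQCAlg.spec) = (Set.range j0.base)ᶜ)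

include hj0 in
omit [L.IsQuasicoherent] in
theorem preimage_le_j0 (D : X.Opens) : D ≤ j0 ⁻¹ᵁ (𝒜.toQCAlg.π ⁻¹ᵁ D) := fun x hx => by
  change (j0 ≫ 𝒜.toQCAlg.π) x ∈ D
  rw [hj0.comp_π]
  exact hx

include hA h0 haug hj0 hL hV0 in
/-- The functions given by a section of a power of `L`. -/
theorem exists_data (hamp : RelAmple.IsRelAmple p L) (x : X) :
    ∃ (U : Y.Opens) (_ : IsAffineOpen U) (n : ℕ) (s : Γ(𝒜.toQCAlg.spec, 𝒜.toQCAlg.π ⁻¹ᵁ (p ⁻¹ᵁ U)))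
      (N : X.Opens) (hND : N ≤ p ⁻¹ᵁ U), x ∈ N ∧
      j0.appLE (𝒜.toQCAlg.π ⁻¹ᵁ (p ⁻¹ᵁ U)) (p ⁻¹ᵁ U) (preimage_le_j0 hj0 _) s = 0 ∧
      IsAffineOpen (𝒜.toQCAlg.spec.basicOpen s) ∧ 𝒜.toQCAlg.spec.basicOpen s ≤ V0 ∧
      (∀ z ∈ V0, 𝒜.toQCAlg.π z ∈ N → z ∈ 𝒜.toQCAlg.spec.basicOpen s) ∧
      ∀ (M : X.Opens) (_ : IsAffineOpen M) (g : Γ(L, M)), Gen L M g → ∀ (h : M ≤ N), ∃ c : Γ(X, M), IsUnit c ∧
        rs 𝒜 (h.trans hND) ((𝒜.toQCAlg.gammaMap.app (op (p ⁻¹ᵁ U))).hom s) =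
          sc 𝒜 M c * jel 𝒜 jL M g ^ (n + 1) := by
  obtain ⟨U, hU, hxU, -⟩ := exists_isAffineOpen_mem_and_subset (x := p x) (U := (⊤ : Y.Opens)) trivial
  let D : X.Opens := p ⁻¹ᵁ U
  have hx : x ∈ D := hxU
  obtain ⟨n, σ, hxσ, hσ⟩ := (hamp.2 ⟨U, hU⟩).2.2 ⟨x, hx⟩
  rw [genLocus_eq_gloc] at hxσ hσ
  obtain ⟨φ⟩ := nonempty_tensorPow_iso (Groth.Ega2Proj.restrictIsoPullback D.ι L) (n + 1)
  obtain ⟨y, hy, hgl⟩ := exists_elt_of_powSection hA hL D (φ.hom.app ⊤ (gsec σ))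
  rw [gloc_map] at hgl
  obtain ⟨s, rfl⟩ := exists_section D y
  refine ⟨U, hU, n, s, nv 𝒜 D ((𝒜.toQCAlg.gammaMap.app (op D)).hom s) (n + 1), nv_le _ _, ?_⟩
  set y := (𝒜.toQCAlg.gammaMap.app (op D)).hom s with hys
  set N := nv 𝒜 D y (n + 1)
  have hloc : ∀ (w : 𝒜.toQCAlg.spec), 𝒜.toQCAlg.π w ∈ D → ∃ (M : X.Opens) (hM : IsAffineOpen M) (g : Γ(L, M))
      (hMD : M ≤ D) (c : Γ(X, M)) (w' : Spec (𝒜.presheaf.obj (op M))), Gen L M g ∧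
        (𝒜.toQCAlg.ι M hM) w' = w ∧ rs 𝒜 hMD y = sc 𝒜 M c * jel 𝒜 jL M g ^ (n + 1) := by
    intro w hw
    obtain ⟨M, hM, g, hwM, hMD, hg⟩ := exists_triv (L := L) hL hw
    obtain ⟨c, hc⟩ := exists_coeff hA hM hg (hy M hM hMD hg)
    obtain ⟨w', hw'⟩ := exists_ι_eq hM hwM
    exact ⟨M, hM, g, hMD, c, w', hg, hw', hc⟩
  have hmemN : ∀ z ∈ V0, 𝒜.toQCAlg.π z ∈ N → z ∈ 𝒜.toQCAlg.spec.basicOpen s := by
    intro z hz hzN
    obtain ⟨M, hM, g, hMD, c, w', hg, rfl, hc⟩ := hloc z (nv_le _ _ hzN)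
    refine (mem_piece_iff hA hM hMD hc w').2 ⟨(mem_nv_iff hA hM hg hMD hc (ι_mem_preimage hM w')).1 hzN, fun h => ?_⟩
    exact hV0.le hz ((mem_range_vertex_iff hA h0 haug hj0 hM hg w').2 h)
  have hleN : 𝒜.toQCAlg.spec.basicOpen s ≤ 𝒜.toQCAlg.π ⁻¹ᵁ N := by
    intro z hz
    obtain ⟨M, hM, g, hMD, c, w', hg, rfl, hc⟩ := hloc z (𝒜.toQCAlg.spec.basicOpen_le s hz)
    exact (mem_nv_iff hA hM hg hMD hc (ι_mem_preimage hM w')).2 ((mem_piece_iff hA hM hMD hc w').1 hz).1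
  have hzero : j0.appLE (𝒜.toQCAlg.π ⁻¹ᵁ D) D (preimage_le_j0 hj0 D) s = 0 := by
    choose M hM g hxM hMD hg using fun z : D => exists_triv (L := L) hL z.2
    refine TopCat.Sheaf.eq_of_locally_eq' X.sheaf M D (fun z => homOfLE (hMD z))
      (fun z hz => Opens.mem_iSup.2 ⟨⟨z, hz⟩, hxM ⟨z, hz⟩⟩) _ 0 fun z => ?_
    refine Eq.trans ?_ (map_zero (X.presheaf.map (homOfLE (hMD z)).op).hom).symm
    refine (congr(($(j0.appLE_map (preimage_le_j0 hj0 D) (homOfLE (hMD z)).op)).hom s)).trans ?_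
    refine (congr(($(j0.map_appLE (preimage_le_j0 hj0 (M z))
      (homOfLE (𝒜.toQCAlg.π.preimage_mono (hMD z))).op)).hom s)).symm.trans ?_
    rw [appLE_vertex hj0 (hM z)]
    refine (congrArg (aug.hom.app (op (M z))).hom (gammaAff_res (hM z) (hMD z) s)).trans ?_
    exact haug (M z) (hM z) n _ (hy (M z) (hM z) (hMD z) (hg z))
  refine ⟨?_, hzero, ?_, ?_, hmemN, ?_⟩
  · rw [hgl] at hxσ
    exact hxσ
  · have hN : IsAffineOpen N := by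
      have h1 := hσ.image_of_isOpenImmersion D.ι
      rw [hgl, Scheme.Hom.image_preimage_eq_opensRange_inf, Scheme.Opens.opensRange_ι,
        inf_eq_right.2 (nv_le _ _)] at h1
      exact h1
    have h2 := (hN.preimage 𝒜.toQCAlg.π).basicOpen
      (𝒜.toQCAlg.spec.presheaf.map (homOfLE (𝒜.toQCAlg.π.preimage_mono (nv_le (𝒮L := 𝒜) y (n + 1)))).op s)
    rwa [Scheme.basicOpen_res, inf_eq_right.2 hleN] at h2
  · intro z hz
    by_contra hz0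
    obtain ⟨w, rfl⟩ : z ∈ Set.range j0.base := not_not.1 fun h => hz0 (hV0.ge h)
    have hwD : w ∈ D := by
      have h := 𝒜.toQCAlg.spec.basicOpen_le s hz
      change (j0 ≫ 𝒜.toQCAlg.π) w ∈ D at h
      rwa [hj0.comp_π] at h
    have h1 : w ∈ X.basicOpen (j0.appLE (𝒜.toQCAlg.π ⁻¹ᵁ D) D (preimage_le_j0 hj0 D) s) := by
      rw [Scheme.basicOpen_appLE]
      exact ⟨hwD, hz⟩
    rw [hzero, Scheme.basicOpen_zero] at h1
    exact h1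
  · intro M hM g hg h
    exact exists_unit_coeff hA hM hg h (hy M hM (h.trans (nv_le _ _)) hg)

include hA h0 haug hj0 hV0 in
theorem isAffineOpen_inf_preimage {M : X.Opens} (hM : IsAffineOpen M) {g : Γ(L, M)} (hg : Gen L M g) :
    IsAffineOpen (V0 ⊓ 𝒜.toQCAlg.π ⁻¹ᵁ M) := by
  obtain ⟨s, hs⟩ := exists_section M (jel 𝒜 jL M g)
  have e : V0 ⊓ 𝒜.toQCAlg.π ⁻¹ᵁ M = 𝒜.toQCAlg.spec.basicOpen s := by
    refine Opens.ext (Set.ext fun z => ⟨fun hz => ?_, fun hz => ?_⟩)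
    · obtain ⟨w, rfl⟩ := exists_ι_eq hM hz.2
      refine (mem_basicOpen_ι_iff hM le_rfl s w).2 ?_
      rw [hs, rs_self]
      exact fun h => hV0.le hz.1 ((mem_range_vertex_iff hA h0 haug hj0 hM hg w).2 h)
    · have hz' : z ∈ 𝒜.toQCAlg.π ⁻¹ᵁ M := 𝒜.toQCAlg.spec.basicOpen_le s hz
      obtain ⟨w, rfl⟩ := exists_ι_eq hM hz'
      refine ⟨hV0.ge fun h => ?_, hz'⟩
      have h1 := (mem_basicOpen_ι_iff hM le_rfl s w).1 hz
      rw [hs, rs_self] at h1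
      exact h1 ((mem_range_vertex_iff hA h0 haug hj0 hM hg w).1 h)
  rw [e]
  exact (hM.preimage 𝒜.toQCAlg.π).basicOpen s

include hA h0 haug hj0 hL hV0 in
theorem isAffineHom_ι : IsAffineHom V0.ι := by
  refine isAffineHom_of_forall_exists_isAffineOpen _ fun z => ?_
  obtain ⟨M, hM, g, hzM, -, hg⟩ := exists_triv (L := L) hL (x := 𝒜.toQCAlg.π z) (W := ⊤) trivial
  refine ⟨𝒜.toQCAlg.π ⁻¹ᵁ M, hzM, hM.preimage _, ?_⟩
  rw [← V0.ι.isAffineOpen_iff_of_isOpenImmersion, Scheme.Hom.image_preimage_eq_opensRange_inf,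
    Scheme.Opens.opensRange_ι]
  exact isAffineOpen_inf_preimage hA h0 haug hj0 hV0 hM hg

include hj0 in
omit [L.IsQuasicoherent] in
theorem j0_comp : j0 ≫ 𝒜.toQCAlg.π ≫ p = p := by
  rw [← Category.assoc, hj0.comp_π, Category.id_comp]

variable [QuasiCompact p] [QuasiSeparated p]

include hA h0 haug hL hV0 in
/-- The bundle minus its zero section is an open part of the contraction. -/
theorem open_part (hamp : RelAmple.IsRelAmple p L) :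
    IsOpenImmersion (V0.ι ≫ Cone.toCone (𝒜.toQCAlg.π ≫ p) p j0 (j0_comp hj0 p)) ∧
      QuasiCompact (V0.ι ≫ Cone.toCone (𝒜.toQCAlg.π ≫ p) p j0 (j0_comp hj0 p)) ∧
        Set.range (V0.ι ≫ Cone.toCone (𝒜.toQCAlg.π ≫ p) p j0 (j0_comp hj0 p)).base ∩
          Set.range (Cone.vertex (𝒜.toQCAlg.π ≫ p) p j0 (j0_comp hj0 p)).base = ∅ := by
  obtain ⟨h1, h2⟩ := Cone.open_part (𝒜.toQCAlg.π ≫ p) p j0 (j0_comp hj0 p) V0 fun z hz => by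
    obtain ⟨U, hU, n, s, N, hND, hxN, hs0, haff, hle, hmem, -⟩ :=
      exists_data hA h0 haug hj0 p hL hV0 hamp (𝒜.toQCAlg.π z)
    exact ⟨U, hU, s, (𝒜.toQCAlg.π ≫ p).isQuasiSeparated_preimage hU.isQuasiSeparated, hs0, haff, hle,
      hmem z hz hxN⟩
  refine ⟨h1, ?_, h2⟩
  have := isAffineHom_ι hA h0 haug hj0 hL hV0
  have : QuasiCompact ((V0.ι ≫ Cone.toCone (𝒜.toQCAlg.π ≫ p) p j0 (j0_comp hj0 p)) ≫
      (Cone.alg (𝒜.toQCAlg.π ≫ p) p j0 (j0_comp hj0 p)).π) := by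
    rw [Category.assoc, Cone.toCone_π]
    infer_instance
  exact QuasiCompact.of_comp _ (Cone.alg (𝒜.toQCAlg.π ≫ p) p j0 (j0_comp hj0 p)).π

end Groth.Grauert.Pieces
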