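/-
The contraction of the zero section is proper when the base map is (EGA II 8.9.4).
-/
import Groth.Agent.Grauert.Pieces

set_option autoImplicit false
universe u
open CategoryTheory CategoryTheory.Limits AlgebraicGeometry Opposite TopologicalSpace
open scoped HomogeneousIdeal

set_option backward.isDefEq.respectTransparency.types false

noncomputable section

namespace Groth.Grauert.Pieces

open Groth.PicAux Groth.RLpsi Groth.RelTw Groth.PropsBasic.Ample

variable {X : Scheme.{u}} {L : X.Modules} [L.IsQuasicoherent] (hL : PicF.IsInvertible L)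
  {𝒜 : RelProj.QCGrAlg X} {jL : L ⟶ 𝒜.toModule} (hA : RelProj.IsGrSymAlg L 𝒜 jL)
  (h0 : RelCone.StrZeroBij 𝒜)
  {aug : 𝒜.toQCAlg ⟶ RelSpec.QCAlg.unit X} (haug : RelCone.IsAugmentation 𝒜 aug)
  {j0 : X ⟶ 𝒜.toQCAlg.spec} (hj0 : RelCone.IsVertex 𝒜 aug j0)
  {V0 : 𝒜.toQCAlg.spec.Opens} (hV0 : (V0 : Set 𝒜.toQCAlg.spec) = (Set.range j0.base)ᶜ)

include hA in
/-- Over a trivialising affine the algebra is generated by the generator. -/
theorem mem_closure {M : X.Opens} (hM : IsAffineOpen M) {g : Γ(L, M)} (hg : Gen L M g)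
    (a : 𝒜.presheaf.obj (op M)) :
    a ∈ Subring.closure (Set.range (sc 𝒜 M) ∪ {jel 𝒜 jL M g}) := by
  classical
  rw [← DirectSum.sum_support_decompose (𝒜.deg M hM) a]
  refine Subring.sum_mem _ fun i _ => ?_
  obtain ⟨c, hc⟩ := exists_coeff hA hM hg (SetLike.coe_mem (DirectSum.decompose (𝒜.deg M hM) a i))
  rw [hc]
  have h1 : sc 𝒜 M c ∈ Subring.closure (Set.range (sc 𝒜 M) ∪ {jel 𝒜 jL M g}) :=
    Subring.subset_closure (Or.inl ⟨c, rfl⟩)
  have h2 : jel 𝒜 jL M g ∈ Subring.closure (Set.range (sc 𝒜 M) ∪ {jel 𝒜 jL M g}) :=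
    Subring.subset_closure (Or.inr rfl)
  exact mul_mem h1 (pow_mem h2 i)

include hA hL in
/-- The line bundle is of finite type. -/
theorem locallyOfFiniteType_π : LocallyOfFiniteType 𝒜.toQCAlg.π := by
  choose M hM g hxM hg using fun x : X => RelTw.exists_affine_gen hL x
  refine IsZariskiLocalAtTarget.of_iSup_eq_top (P := @LocallyOfFiniteType) M
    (eq_top_iff.2 fun x _ => Opens.mem_iSup.2 ⟨x, hxM x⟩) fun x => ?_
  have : IsAffine (M x : Scheme.{u}) := hM x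
  have : IsAffine ((𝒜.toQCAlg.π ⁻¹ᵁ M x : 𝒜.toQCAlg.spec.Opens) : Scheme.{u}) := (hM x).preimage _
  rw [← Scheme.Hom.resLE_eq_morphismRestrict, HasRingHomProperty.iff_of_isAffine (P := @LocallyOfFiniteType),
    Scheme.Hom.appTop, Scheme.Hom.resLE_app_top]
  refine ((RingHom.FiniteType.of_surjective _
      (ConcreteCategory.bijective_of_isIso (𝒜.toQCAlg.π ⁻¹ᵁ M x).topIso.inv).2).comp ?_).comp
    (RingHom.FiniteType.of_surjective _ (ConcreteCategory.bijective_of_isIso (M x).topIso.hom).2)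
  change RingHom.FiniteType (𝒜.toQCAlg.π.appLE (M x) (𝒜.toQCAlg.π ⁻¹ᵁ M x) le_rfl).hom
  have := Groth.Ega2P2.isIso_gammaAff 𝒜.toQCAlg (M x) (hM x)
  have hstr : (𝒜.toQCAlg.str.app (op (M x))).hom.FiniteType := by
    algebraize [(𝒜.toQCAlg.str.app (op (M x))).hom]
    refine ⟨⟨{jel 𝒜 jL (M x) (g x)}, eq_top_iff.2 fun a _ => ?_⟩⟩
    rw [Finset.coe_singleton]
    exact Algebra.mem_adjoin_iff.2 (mem_closure hA (hM x) (hg x) a)
  rw [← Scheme.Hom.app_eq_appLE]
  have e : 𝒜.toQCAlg.π.app (M x) = 𝒜.toQCAlg.str.app (op (M x)) ≫ inv (𝒜.toQCAlg.gammaAff (M x) (hM x)) := by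
    rw [IsIso.eq_comp_inv, 𝒜.toQCAlg.π_app_gammaAff (M x) (hM x)]
  rw [e]
  exact RingHom.finiteType_respectsIso.1 _
    (asIso (𝒜.toQCAlg.gammaAff (M x) (hM x))).symm.commRingCatIsoToRingEquiv hstr

variable {Y : Scheme.{u}} (p : X ⟶ Y) [QuasiCompact p] [QuasiSeparated p]

/-- The bundle over the base change of the contraction. -/
def toPullback : 𝒜.toQCAlg.spec ⟶ pullback (Cone.alg (𝒜.toQCAlg.π ≫ p) p j0 (j0_comp hj0 p)).π p :=
  pullback.lift (Cone.toCone (𝒜.toQCAlg.π ≫ p) p j0 (j0_comp hj0 p)) 𝒜.toQCAlg.π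
    (Cone.toCone_π _ _ _ _)

include hA h0 haug hj0 hV0 hL in
theorem isIntegralHom_toPullback (hamp : RelAmple.IsRelAmple p L) :
    IsIntegralHom (toPullback hj0 p) := by
  let ρ := 𝒜.toQCAlg.π ≫ p
  let A := Cone.alg ρ p j0 (j0_comp hj0 p)
  let q := Cone.toCone ρ p j0 (j0_comp hj0 p)
  let w := toPullback hj0 p
  let sn := pullback.snd A.π p
  have hwsn : w ≫ sn = 𝒜.toQCAlg.π := pullback.lift_snd _ _ _
  have hwfs : w ≫ pullback.fst A.π p = q := pullback.lift_fst _ _ _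
  have : IsAffineHom sn := MorphismProperty.pullback_snd _ _ inferInstance
  choose U hU n s N hND hxN hs0 haff hle hmem hunit using
    fun x : X => exists_data hA h0 haug hj0 p hL hV0 hamp x
  choose M hM g hxM hMN hg using fun x : X => exists_triv (L := L) hL (hxN x)
  refine IsZariskiLocalAtTarget.of_iSup_eq_top (P := @IsIntegralHom) (fun x => sn ⁻¹ᵁ M x)
    (eq_top_iff.2 fun z _ => Opens.mem_iSup.2 ⟨sn z, hxM (sn z)⟩) fun x => ?_
  let W := sn ⁻¹ᵁ M x
  let P := 𝒜.toQCAlg.π ⁻¹ᵁ M x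
  have hWa : IsAffineOpen W := (hM x).preimage sn
  have hP : w ⁻¹ᵁ W = P := by rw [← Scheme.Hom.comp_preimage, hwsn]
  have hPa : IsAffineOpen P := (hM x).preimage _
  suffices h : (w.appLE W P hP.ge).hom.IsIntegral by
    have key : ∀ (P' : 𝒜.toQCAlg.spec.Opens) (e : w ⁻¹ᵁ W = P') (_ : IsAffineOpen P'),
        (w.appLE W P' e.ge).hom.IsIntegral → IsIntegralHom (w ∣_ W) := by
      rintro P' rfl hP' hi
      have : IsAffine (W : Scheme.{u}) := hWa
      have : IsAffine ((w ⁻¹ᵁ W : 𝒜.toQCAlg.spec.Opens) : Scheme.{u}) := hP'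
      rw [← Scheme.Hom.resLE_eq_morphismRestrict, HasAffineProperty.iff_of_isAffine (P := @IsIntegralHom)]
      refine ⟨inferInstance, ?_⟩
      rw [Scheme.Hom.resLE_app_top]
      exact ((RingHom.Finite.of_surjective _ (ConcreteCategory.bijective_of_isIso W.topIso.hom).2).to_isIntegral.trans
        _ _ hi).trans _ _
        (RingHom.Finite.of_surjective _ (ConcreteCategory.bijective_of_isIso (w ⁻¹ᵁ W).topIso.inv).2).to_isIntegral
    exact key P hP hPa h
  -- the two kinds of functions coming from the base change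
  have hMD : M x ≤ p ⁻¹ᵁ U x := (hMN x).trans (hND x)
  have hsn : ∀ a : Γ(X, M x), (w.appLE W P hP.ge).hom ((sn.appLE (M x) W le_rfl).hom a) =
      (𝒜.toQCAlg.π.app (M x)).hom a := by
    intro a
    refine (congr(($(Scheme.Hom.appLE_comp_appLE w sn (M x) W P le_rfl hP.ge)).hom a)).trans ?_
    rw [Scheme.Hom.app_eq_appLE]
    exact congr(($(Groth.Ega2Proj.QAff.appLE_congr_hom hwsn _ le_rfl)).hom a)
  obtain ⟨b, hb, -⟩ := fib_exists (pullHom ρ p j0 (j0_comp hj0 p)) (Cone.baseHom p) (W := U x) (s x) 0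
    ((hs0 x).trans (map_zero _).symm)
  obtain ⟨b', hb'⟩ := Cone.exists_fun ρ p j0 (j0_comp hj0 p) (hU x) b
  have hWU : W ≤ pullback.fst A.π p ⁻¹ᵁ (A.π ⁻¹ᵁ U x) := fun z hz => by
    change (pullback.fst A.π p ≫ A.π) z ∈ U x
    rw [pullback.condition]
    exact hMD hz
  have hPD : P ≤ 𝒜.toQCAlg.π ⁻¹ᵁ (p ⁻¹ᵁ U x) := 𝒜.toQCAlg.π.preimage_mono hMD
  have hfst : (w.appLE W P hP.ge).hom ((pullback.fst A.π p).appLE _ W hWU b') =
      𝒜.toQCAlg.spec.presheaf.map (homOfLE hPD).op (s x) := by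
    have e1 : P ≤ q ⁻¹ᵁ (A.π ⁻¹ᵁ U x) := hPD.trans (Cone.preimage_toCone ρ p j0 (j0_comp hj0 p)).ge
    refine (congr(($(Scheme.Hom.appLE_comp_appLE w (pullback.fst A.π p) (A.π ⁻¹ᵁ U x) W P hWU hP.ge)).hom b')).trans ?_
    refine (congr(($(Groth.Ega2Proj.QAff.appLE_congr_hom hwfs _ e1)).hom b')).trans ?_
    refine (congr(($(q.appLE_map (Cone.preimage_toCone ρ p j0 (j0_comp hj0 p)).ge (homOfLE hPD).op)).hom b')).symm.trans ?_
    refine congrArg (𝒜.toQCAlg.spec.presheaf.map (homOfLE hPD).op) ?_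
    refine (Cone.appLE_toCone ρ p j0 (j0_comp hj0 p) (hU x) b').trans ?_
    rw [hb']
    exact hb
  obtain ⟨c, hcu, hc⟩ := hunit x (M x) (hM x) (g x) (hg x) (hMN x)
  obtain ⟨gt, hgt⟩ := exists_section (M x) (jel 𝒜 jL (M x) (g x))
  rw [𝒜.toQCAlg.gammaMap_app (M x) (hM x)] at hgt
  let γ := (𝒜.toQCAlg.gammaAff (M x) (hM x)).hom
  have := Groth.Ega2P2.isIso_gammaAff 𝒜.toQCAlg (M x) (hM x)
  have hγ : Function.Bijective γ := ConcreteCategory.bijective_of_isIso (𝒜.toQCAlg.gammaAff (M x) (hM x))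
  have hγπ : ∀ a, γ ((𝒜.toQCAlg.π.app (M x)).hom a) = sc 𝒜 (M x) a := fun a =>
    congr(($(𝒜.toQCAlg.π_app_gammaAff (M x) (hM x))).hom a)
  algebraize [(w.appLE W P hP.ge).hom]
  obtain ⟨d, hd⟩ := hcu.exists_left_inv
  have hgn : gt ^ (n x + 1) = algebraMap Γ(pullback A.π p, W) Γ(𝒜.toQCAlg.spec, P)
      ((sn.appLE (M x) W le_rfl).hom d * (pullback.fst A.π p).appLE _ W hWU b') := by
    rw [map_mul, RingHom.algebraMap_toAlgebra, hsn, hfst]
    refine hγ.1 ?_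
    rw [map_pow, map_mul, hγπ, show γ gt = _ from hgt,
      show γ (𝒜.toQCAlg.spec.presheaf.map (homOfLE hPD).op (s x)) = _ from
        (gammaAff_res (hM x) hMD (s x)).trans hc, ← mul_assoc, ← map_mul, hd, map_one, one_mul]
  intro t
  have hgt' : IsIntegral Γ(pullback A.π p, W) gt :=
    IsIntegral.of_pow (n x).succ_pos (by rw [hgn]; exact isIntegral_algebraMap)
  have hsub : Subring.closure (Set.range (sc 𝒜 (M x)) ∪ {jel 𝒜 jL (M x) (g x)}) ≤
      ((integralClosure Γ(pullback A.π p, W) Γ(𝒜.toQCAlg.spec, P)).toSubring).map γ := by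
    refine Subring.closure_le.2 ?_
    rintro _ (⟨a, rfl⟩ | rfl)
    · refine ⟨(𝒜.toQCAlg.π.app (M x)).hom a, ?_, hγπ a⟩
      rw [← hsn a]
      exact isIntegral_algebraMap (x := (sn.appLE (M x) W le_rfl).hom a)
    · exact ⟨gt, hgt', hgt⟩
  obtain ⟨t', ht', e⟩ := hsub (mem_closure hA (hM x) (hg x) (γ t))
  exact hγ.1 e ▸ ht'

include hA h0 haug hj0 hV0 hL in
theorem isProper_toCone [IsProper p] (hamp : RelAmple.IsRelAmple p L) :
    IsProper (Cone.toCone (𝒜.toQCAlg.π ≫ p) p j0 (j0_comp hj0 p)) := by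
  let A := Cone.alg (𝒜.toQCAlg.π ≫ p) p j0 (j0_comp hj0 p)
  let q := Cone.toCone (𝒜.toQCAlg.π ≫ p) p j0 (j0_comp hj0 p)
  have := locallyOfFiniteType_π hL hA
  have : LocallyOfFiniteType (q ≫ A.π) := by
    rw [Cone.toCone_π]
    infer_instance
  have : LocallyOfFiniteType q := locallyOfFiniteType_of_comp q A.π
  have : IsSeparated (q ≫ A.π) := by
    rw [Cone.toCone_π]
    infer_instance
  have : IsSeparated q := IsSeparated.of_comp q A.π
  have := isIntegralHom_toPullback hL hA h0 haug hj0 hV0 p hamp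
  have h1 : IsProper (pullback.fst A.π p) := MorphismProperty.pullback_fst _ _ inferInstance
  have : UniversallyClosed q := by
    rw [show q = toPullback hj0 p ≫ pullback.fst A.π p from (pullback.lift_fst _ _ _).symm]
    infer_instance
  exact {}

include hA h0 haug hj0 hV0 hL in
theorem range_eq_compl [IsProper p] (hamp : RelAmple.IsRelAmple p L) :
    Set.range (V0.ι ≫ Cone.toCone (𝒜.toQCAlg.π ≫ p) p j0 (j0_comp hj0 p)).base =
      (Set.range (Cone.vertex (𝒜.toQCAlg.π ≫ p) p j0 (j0_comp hj0 p)).base)ᶜ := by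
  let A := Cone.alg (𝒜.toQCAlg.π ≫ p) p j0 (j0_comp hj0 p)
  let ε := Cone.vertex (𝒜.toQCAlg.π ≫ p) p j0 (j0_comp hj0 p)
  let q := Cone.toCone (𝒜.toQCAlg.π ≫ p) p j0 (j0_comp hj0 p)
  have := isProper_toCone hL hA h0 haug hj0 hV0 p hamp
  have : IsClosedImmersion (ε ≫ A.π) := by
    rw [Cone.vertex_π]
    infer_instance
  have hε : IsClosedImmersion ε := IsClosedImmersion.of_comp ε A.π
  have hun := Cone.range_union_eq_univ (𝒜.toQCAlg.π ≫ p) p j0 (j0_comp hj0 p)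
    q.isClosedMap.isClosed_range hε.base_closed.isClosed_range
  have hdisj := (open_part hA h0 haug hj0 p hL hV0 hamp).2.2
  refine Set.Subset.antisymm (fun c hc hc' => (Set.eq_empty_iff_forall_notMem.1 hdisj) c ⟨hc, hc'⟩) fun c hc => ?_
  obtain ⟨v, rfl⟩ := (hun.ge (Set.mem_univ c)).resolve_right hc
  by_cases hv : v ∈ V0
  · exact ⟨⟨v, hv⟩, rfl⟩
  · obtain ⟨x, rfl⟩ : v ∈ Set.range j0.base := not_not.1 fun h => hv (hV0.ge h)
    exact absurd ⟨p x, congr($(Cone.j_toCone (𝒜.toQCAlg.π ≫ p) p j0 (j0_comp hj0 p)).base x).symm⟩ hc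

end Groth.Grauert.Pieces
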