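/-
When `p_* O_X = O_Y` the contraction is the spectrum of all functions on the bundle (EGA II 8.8.4, 8.9.6).
-/
import Groth.Agent.Grauert.Proper
import Groth.Agent.AlgGrp1.PushIso
import Groth.Prelude.Def_AffAlg

set_option autoImplicit false
universe u
open CategoryTheory CategoryTheory.Limits AlgebraicGeometry Opposite TopologicalSpace
open scoped HomogeneousIdeal

set_option backward.isDefEq.respectTransparency.types false

noncomputable section

namespace Groth.Grauert.DirIm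

open Groth.Limits.RelSpecColimit Groth.AlgGrp1
open Groth.QCohMod (BSec)

variable {X V Y : Scheme.{u}} (ρ : V ⟶ Y) [QuasiCompact ρ] [QuasiSeparated ρ] (p : X ⟶ Y) [QuasiCompact p]
  [QuasiSeparated p] (j : X ⟶ V) (hj : j ≫ ρ = p)

/-- If `p_* O_X = O_Y`, a function on `V` is constant along `X`. -/
theorem exists_inverse (hc : IsIso p.c) :
    ∃ ψ : RelSpec.QCAlg.directImage ρ ⟶ Cone.alg ρ p j hj,
      ψ ≫ fibFst (pullHom ρ p j hj) (Cone.baseHom p) = 𝟙 _ ∧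
        fibFst (pullHom ρ p j hj) (Cone.baseHom p) ≫ ψ = 𝟙 (Cone.alg ρ p j hj) := by
  let φ : Cone.alg ρ p j hj ⟶ RelSpec.QCAlg.directImage ρ := fibFst (pullHom ρ p j hj) (Cone.baseHom p)
  have hb : ∀ W : Y.Opens, Function.Bijective ((Cone.baseHom p).hom.app (op W)).hom := fun W =>
    ConcreteCategory.bijective_of_isIso (p.c.app (op W))
  have : ∀ W, IsIso (φ.hom.app W) := fun W => by
    refine (ConcreteCategory.isIso_iff_bijective _).2 ⟨(injective_iff_map_eq_zero (φ.hom.app W).hom).2 fun b hb0 => ?_,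
      fun a => ?_⟩
    · refine fib_ext (pullHom ρ p j hj) (Cone.baseHom p) (W := W.unop) (hb0.trans (map_zero _).symm) ?_
      refine (hb W.unop).1 ((fib_sec_mem (pullHom ρ p j hj) (Cone.baseHom p) (W := W.unop) b).symm.trans ?_)
      refine (congrArg _ hb0).trans ?_
      exact (map_zero _).trans ((congrArg _ (map_zero _)).trans (map_zero _)).symm
    · obtain ⟨r, hr⟩ := (hb W.unop).2 (((pullHom ρ p j hj).hom.app W).hom a)
      obtain ⟨b, hb1, -⟩ := fib_exists (pullHom ρ p j hj) (Cone.baseHom p) (W := W.unop) a r hr.symm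
      exact ⟨b, hb1⟩
  have : IsIso φ.hom := NatIso.isIso_of_isIso_app _
  refine ⟨⟨inv φ.hom, by rw [IsIso.comp_inv_eq, φ.comm]⟩, ?_, ?_⟩
  · exact RelSpec.QCAlg.hom_ext (IsIso.inv_hom_id φ.hom)
  · exact RelSpec.QCAlg.hom_ext (IsIso.hom_inv_id φ.hom)

variable (q' : V ⟶ (RelSpec.QCAlg.directImage ρ).spec) (hq'π : q' ≫ (RelSpec.QCAlg.directImage ρ).π = ρ)
  (hq' : AffAlg.algHom (RelSpec.QCAlg.directImage ρ).π ρ q' hq'π = (RelSpec.QCAlg.directImage ρ).gammaMap)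

omit [QuasiCompact ρ] [QuasiSeparated ρ] in
theorem algHom_app {S A B : Scheme.{u}} (f : A ⟶ S) (g : B ⟶ S) (h : B ⟶ A) (w : h ≫ f = g) (U : S.Opens)
    (e : g ⁻¹ᵁ U ≤ h ⁻¹ᵁ (f ⁻¹ᵁ U)) :
    (AffAlg.algHom f g h w).app (op U) = h.appLE (f ⁻¹ᵁ U) (g ⁻¹ᵁ U) e := by
  subst w
  rw [Scheme.Hom.appLE]
  simp only [AffAlg.algHom, eqToHom_refl, Category.comp_id]
  exact ((congrArg (h.app (f ⁻¹ᵁ U) ≫ ·) (B.presheaf.map_id _)).trans (Category.comp_id _)).symm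

omit [QuasiCompact ρ] [QuasiSeparated ρ] in
theorem preimage_le_q' {A : RelSpec.QCAlg Y} {v : V ⟶ A.spec} (hv : v ≫ A.π = ρ) (U : Y.Opens) :
    ρ ⁻¹ᵁ U ≤ v ⁻¹ᵁ (A.π ⁻¹ᵁ U) := by
  rw [← Scheme.Hom.comp_preimage, hv]

include hq' in
/-- The canonical map to the spectrum of the direct image is given by the identity. -/
theorem isLift_id : IsLift ρ (𝟙 (RelSpec.QCAlg.directImage ρ)) q' := by
  obtain ⟨φ, hφ⟩ := exists_hom_isLift ρ q' hq'π
  suffices h : φ = 𝟙 _ by rwa [h] at hφ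
  refine hom_ext_affine fun U hU => CommRingCat.hom_ext (RingHom.ext fun a => ?_)
  have := Groth.Ega2P2.isIso_gammaAff (RelSpec.QCAlg.directImage ρ) U hU
  obtain ⟨b, rfl⟩ := (ConcreteCategory.bijective_of_isIso ((RelSpec.QCAlg.directImage ρ).gammaAff U hU)).2 a
  refine (Groth.Ega2Proj.QAff.lift_appLE hφ hU (preimage_le_q' ρ hq'π U) b).symm.trans ?_
  rw [← algHom_app (RelSpec.QCAlg.directImage ρ).π ρ q' hq'π U, hq', (RelSpec.QCAlg.directImage ρ).gammaMap_app U hU]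
  rfl

include hq' in
theorem bijective_appLE {U : Y.Opens} (hU : IsAffineOpen U) :
    Function.Bijective (q'.appLE _ (ρ ⁻¹ᵁ U) (preimage_le_q' ρ hq'π U)).hom := by
  rw [← algHom_app (RelSpec.QCAlg.directImage ρ).π ρ q' hq'π U, hq', (RelSpec.QCAlg.directImage ρ).gammaMap_app U hU]
  have := Groth.Ega2P2.isIso_gammaAff (RelSpec.QCAlg.directImage ρ) U hU
  exact ConcreteCategory.bijective_of_isIso ((RelSpec.QCAlg.directImage ρ).gammaAff U hU)

include hq' in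
/-- The canonical map has `q'_* O = O`. -/
theorem pushIso : PushIso q' := by
  intro O y hy
  let A := RelSpec.QCAlg.directImage ρ
  obtain ⟨U, hU, hyU, -⟩ := exists_isAffineOpen_mem_and_subset (x := A.π y) (U := (⊤ : Y.Opens)) trivial
  obtain ⟨b, hbO, hyb⟩ := (hU.preimage A.π).exists_basicOpen_le (V := O) ⟨y, hy⟩ hyU
  let D := A.spec.basicOpen b
  refine ⟨D, (hU.preimage A.π).basicOpen b, hyb, hbO, ?_⟩
  let h := RingEquiv.ofBijective _ (bijective_appLE ρ q' hq'π hq' hU)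
  let Q := V.basicOpen (h b)
  have hQ : q' ⁻¹ᵁ D = Q := by
    refine Eq.trans ?_ (Scheme.basicOpen_appLE _ _ _ _ b).symm
    refine (inf_eq_right.2 ((q'.preimage_mono (A.spec.basicOpen_le b)).trans ?_)).symm
    rw [← Scheme.Hom.comp_preimage, hq'π]
  have key : ∀ (W : V.Opens) (e : q' ⁻¹ᵁ D = W), Function.Bijective (q'.appLE D W e.ge).hom → IsIso (q'.app D) := by
    rintro W rfl hb
    rw [Scheme.Hom.app_eq_appLE]
    exact (ConcreteCategory.isIso_iff_bijective _).2 hb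
  refine key Q hQ ?_
  let w := (q'.appLE D Q hQ.ge).hom
  let rD := (A.spec.presheaf.map (homOfLE (A.spec.basicOpen_le b)).op).hom
  let rQ := (V.presheaf.map (homOfLE (V.basicOpen_le (h b))).op).hom
  letI := rD.toAlgebra
  haveI : IsLocalization.Away b Γ(A.spec, D) := (hU.preimage A.π).isLocalization_basicOpen b
  letI := rQ.toAlgebra
  haveI : IsLocalization.Away (h b) Γ(V, Q) := isLocalization_basicOpen_of_qcqs
    (ρ.isCompact_preimage hU.isCompact) (ρ.isQuasiSeparated_preimage hU.isQuasiSeparated) (h b)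
  have hH : (Submonoid.powers b).map h.toMonoidHom = Submonoid.powers (h b) := by simp [Submonoid.map_powers]
  have hw : w = (IsLocalization.ringEquivOfRingEquiv (M := Submonoid.powers b) Γ(A.spec, D) Γ(V, Q) h
      (T := Submonoid.powers (h b)) hH).toRingHom := by
    refine IsLocalization.ringHom_ext (Submonoid.powers b) (RingHom.ext fun x => ?_)
    refine Eq.trans ?_ (IsLocalization.ringEquivOfRingEquiv_eq hH x).symm
    refine (congr(($(q'.map_appLE hQ.ge (homOfLE (A.spec.basicOpen_le b)).op)).hom x)).trans ?_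
    exact (congr(($(q'.appLE_map (preimage_le_q' ρ hq'π U) (homOfLE (V.basicOpen_le (h b))).op)).hom x)).symm
  change Function.Bijective w
  rw [hw]
  exact RingEquiv.bijective _

variable (ψ : RelSpec.QCAlg.directImage ρ ⟶ Cone.alg ρ p j hj)
  (hψ : ψ ≫ fibFst (pullHom ρ p j hj) (Cone.baseHom p) = 𝟙 _)

include hq' hψ in
theorem eq_toCone : q' = Cone.toCone ρ p j hj ≫ RelSpec.QCAlg.specMap ψ := by
  have h2 := (Cone.isLift_toCone ρ p j hj).comp ψ
  exact (isLift_id ρ q' hq'π hq').unique ((congrArg (fun t => IsLift ρ t _) hψ).mp h2)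

variable {ψ} in
include hψ in
theorem isIso_specMap (hψ' : fibFst (pullHom ρ p j hj) (Cone.baseHom p) ≫ ψ = 𝟙 (Cone.alg ρ p j hj)) :
    IsIso (RelSpec.QCAlg.specMap ψ) :=
  ⟨RelSpec.QCAlg.specMap (fibFst (pullHom ρ p j hj) (Cone.baseHom p)), by
    exact (specMap_comp _ _).symm.trans ((congrArg RelSpec.QCAlg.specMap hψ').trans (specMap_id _)), by
    exact (specMap_comp _ _).symm.trans ((congrArg RelSpec.QCAlg.specMap hψ).trans (specMap_id _))⟩

end Groth.Grauert.DirIm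

namespace Groth.Grauert.DirIm

open Groth.Grauert.Pieces Groth.AlgGrp1

variable {X Y : Scheme.{u}} (p : X ⟶ Y) [IsProper p] (hθ : IsIso p.c)
  {L : X.Modules} [L.IsQuasicoherent] (hL : PicF.IsInvertible L) (hamp : RelAmple.IsRelAmple p L)
  {𝒜 : RelProj.QCGrAlg X} {jL : L ⟶ 𝒜.toModule} (hA : RelProj.IsGrSymAlg L 𝒜 jL)
  (h0 : RelCone.StrZeroBij 𝒜)
  {aug : 𝒜.toQCAlg ⟶ RelSpec.QCAlg.unit X} (haug : RelCone.IsAugmentation 𝒜 aug)
  {j0 : X ⟶ 𝒜.toQCAlg.spec} (hj0 : RelCone.IsVertex 𝒜 aug j0)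
  {q' : 𝒜.toQCAlg.spec ⟶ (RelSpec.QCAlg.directImage (𝒜.toQCAlg.π ≫ p)).spec}
  (hq'π : q' ≫ (RelSpec.QCAlg.directImage (𝒜.toQCAlg.π ≫ p)).π = 𝒜.toQCAlg.π ≫ p)
  (hq' : AffAlg.algHom (RelSpec.QCAlg.directImage (𝒜.toQCAlg.π ≫ p)).π (𝒜.toQCAlg.π ≫ p) q' hq'π =
    (RelSpec.QCAlg.directImage (𝒜.toQCAlg.π ≫ p)).gammaMap)

omit [IsProper p] in
include hθ in
theorem pushIso_base : PushIso p :=
  pushIso_of_isIso_app fun U _ => inferInstanceAs (IsIso (p.c.app (op U)))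

include hθ hL hamp hA h0 haug hj0 hq' in
/-- The structure of the canonical map to the spectrum of all functions. -/
theorem exists_structure (V0 : 𝒜.toQCAlg.spec.Opens)
    (hV0 : (V0 : Set 𝒜.toQCAlg.spec) = (Set.range j0.base)ᶜ) :
    ∃ v : Y ⟶ (RelSpec.QCAlg.directImage (𝒜.toQCAlg.π ≫ p)).spec,
      v ≫ (RelSpec.QCAlg.directImage (𝒜.toQCAlg.π ≫ p)).π = 𝟙 Y ∧ j0 ≫ q' = p ≫ v ∧ IsProper q' ∧
        IsOpenImmersion (V0.ι ≫ q') ∧ Set.range (V0.ι ≫ q').base = (Set.range v.base)ᶜ := by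
  obtain ⟨ψ, hψ, hψ'⟩ := exists_inverse (𝒜.toQCAlg.π ≫ p) p j0 (j0_comp hj0 p) hθ
  have := isIso_specMap (𝒜.toQCAlg.π ≫ p) p j0 (j0_comp hj0 p) hψ hψ'
  have e := eq_toCone (𝒜.toQCAlg.π ≫ p) p j0 (j0_comp hj0 p) q' hq'π hq' ψ hψ
  have hprop := isProper_toCone hL hA h0 haug hj0 hV0 p hamp
  obtain ⟨ho, -, -⟩ := open_part hA h0 haug hj0 p hL hV0 hamp
  refine ⟨Cone.vertex (𝒜.toQCAlg.π ≫ p) p j0 (j0_comp hj0 p) ≫ RelSpec.QCAlg.specMap ψ, ?_, ?_, ?_, ?_, ?_⟩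
  · rw [Category.assoc, RelSpec.QCAlg.specMap_π]
    exact Cone.vertex_π _ p j0 _
  · rw [e, ← Category.assoc, Cone.j_toCone, Category.assoc]
  · rw [e]; infer_instance
  · rw [e, ← Category.assoc]; infer_instance
  · rw [e, ← Category.assoc]
    let s := RelSpec.QCAlg.specMap ψ
    have hr : ∀ {Z : Scheme.{u}} (f : Z ⟶ (Cone.alg (𝒜.toQCAlg.π ≫ p) p j0 (j0_comp hj0 p)).spec),
        Set.range (f ≫ s).base = s.base '' Set.range f.base := fun f => Set.range_comp s.base f.base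
    rw [hr, hr, range_eq_compl hL hA h0 haug hj0 hV0 p hamp]
    exact Set.image_compl_eq (Scheme.homeoOfIso (asIso s)).bijective

include hθ hL hamp hA h0 haug hj0 hq' in
theorem surjective_q' : Surjective q' := by
  have := (exists_structure p hθ hL hamp hA h0 haug hj0 hq'π hq' ⟨_, (Groth.Ega2P2.isClosedImmersion_vertex 𝒜 aug
    hj0).base_closed.isClosed_range.isOpen_compl⟩ rfl)
  obtain ⟨v, -, hjv, -, -, hr⟩ := this
  have := (pushIso_base p hθ).surjective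
  refine ⟨fun c => ?_⟩
  by_cases hc : c ∈ Set.range v.base
  · obtain ⟨y, rfl⟩ := hc
    obtain ⟨x, rfl⟩ := p.surjective y
    exact ⟨j0 x, congr($(hjv).base x)⟩
  · obtain ⟨z, rfl⟩ := hr.ge hc
    exact ⟨_, rfl⟩

include hθ hL hamp hA h0 haug hj0 hq' in
/-- The fibres of the canonical map. -/
theorem fibre_cases {a b : 𝒜.toQCAlg.spec} (h : q' a = q' b) :
    a = b ∨ ∃ x x' : X, j0 x = a ∧ j0 x' = b ∧ p x = p x' := by
  let V0 : 𝒜.toQCAlg.spec.Opens := ⟨(Set.range j0.base)ᶜ,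
    (Groth.Ega2P2.isClosedImmersion_vertex 𝒜 aug hj0).base_closed.isClosed_range.isOpen_compl⟩
  obtain ⟨v, hvπ, hjv, -, ho, hr⟩ := exists_structure p hθ hL hamp hA h0 haug hj0 hq'π hq' V0 rfl
  have hin : ∀ {a : 𝒜.toQCAlg.spec}, a ∈ V0 → q' a ∉ Set.range v.base := fun {a} ha => hr.le ⟨⟨a, ha⟩, rfl⟩
  have hout : ∀ {a : 𝒜.toQCAlg.spec}, a ∉ V0 → ∃ x, j0 x = a ∧ q' a = v (p x) := fun {a} ha => by
    obtain ⟨x, rfl⟩ : a ∈ Set.range j0.base := not_not.1 ha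
    exact ⟨x, rfl, congr($(hjv).base x)⟩
  by_cases ha : a ∈ V0 <;> by_cases hb : b ∈ V0
  · exact Or.inl (congrArg Subtype.val ((V0.ι ≫ q').isOpenEmbedding.injective (a₁ := ⟨a, ha⟩) (a₂ := ⟨b, hb⟩) h))
  · obtain ⟨x, -, hx⟩ := hout hb
    exact absurd ⟨p x, (h.trans hx).symm⟩ (hin ha)
  · obtain ⟨x, -, hx⟩ := hout ha
    exact absurd ⟨p x, (h.symm.trans hx).symm⟩ (hin hb)
  · obtain ⟨x, hxa, hx⟩ := hout ha
    obtain ⟨x', hxb, hx'⟩ := hout hb
    refine Or.inr ⟨x, x', hxa, hxb, ?_⟩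
    have h1 := congrArg (RelSpec.QCAlg.directImage (𝒜.toQCAlg.π ≫ p)).π.base (hx.symm.trans (h.trans hx'))
    exact ((congr($(hvπ).base (p x))).symm.trans h1).trans (congr($(hvπ).base (p x')))

include hθ hL hamp hA h0 haug hj0 hq' in
/-- A contraction factors uniquely through the canonical one. -/
theorem existsUnique_factor {C : Scheme.{u}} (g : C ⟶ Y) (ε : Y ⟶ C) (q : 𝒜.toQCAlg.spec ⟶ C)
    (hqg : q ≫ g = 𝒜.toQCAlg.π ≫ p) (hjq : j0 ≫ q = p ≫ ε) :
    ∃! u : (RelSpec.QCAlg.directImage (𝒜.toQCAlg.π ≫ p)).spec ⟶ C,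
      u ≫ g = (RelSpec.QCAlg.directImage (𝒜.toQCAlg.π ≫ p)).π ∧ q' ≫ u = q := by
  have hs := surjective_q' p hθ hL hamp hA h0 haug hj0 hq'π hq'
  have hP := pushIso (𝒜.toQCAlg.π ≫ p) q' hq'π hq'
  obtain ⟨_, -, -, hprop, -, -⟩ := exists_structure p hθ hL hamp hA h0 haug hj0 hq'π hq'
    ⟨_, (Groth.Ega2P2.isClosedImmersion_vertex 𝒜 aug hj0).base_closed.isClosed_range.isOpen_compl⟩ rfl
  obtain ⟨u, hu⟩ := hP.exists_desc q fun a b h => by
    rcases fibre_cases p hθ hL hamp hA h0 haug hj0 hq'π hq' h with rfl | ⟨x, x', rfl, rfl, hp⟩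
    · rfl
    · exact (congr($(hjq).base x)).trans ((congrArg ε.base hp).trans (congr($(hjq).base x')).symm)
  exact ⟨u, ⟨hP.cancel _ _ (by rw [← Category.assoc, hu, hqg, hq'π]), hu⟩,
    fun u' hu' => hP.cancel _ _ (hu'.2.trans hu.symm)⟩

end Groth.Grauert.DirIm
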