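/-
Integrality of a line bundle and of its contraction over an integral scheme (EGA II 8.8.6, 8.9.8).
-/
import Groth.Agent.Grauert.DirectImage

set_option autoImplicit false
universe u
open CategoryTheory CategoryTheory.Limits AlgebraicGeometry Opposite TopologicalSpace
open scoped HomogeneousIdeal

set_option backward.isDefEq.respectTransparency.types false

noncomputable section

namespace Groth.Grauert.Integ

open Groth.PicAux Groth.RLpsi Groth.RelTw Groth.Grauert.Pieces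

variable {X : Scheme.{u}} {L : X.Modules} [L.IsQuasicoherent] (hL : PicF.IsInvertible L)
  {𝒜 : RelProj.QCGrAlg X} {jL : L ⟶ 𝒜.toModule} (hA : RelProj.IsGrSymAlg L 𝒜 jL)

include hA in
/-- Over a trivialising affine with domain of functions the algebra is a domain. -/
theorem isDomain_sections {M : X.Opens} (hM : IsAffineOpen M) {g : Γ(L, M)} (hg : Gen L M g)
    [IsDomain Γ(X, M)] : IsDomain (𝒜.presheaf.obj (op M)) := by
  classical
  have hne : (⊥ : Ideal (𝒜.presheaf.obj (op M))) ≠ ⊤ := by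
    intro h
    have h1 : sc 𝒜 M 1 * jel 𝒜 jL M g ^ 0 = sc 𝒜 M 0 * jel 𝒜 jL M g ^ 0 := by
      rw [map_one, map_zero, zero_mul, pow_zero, one_mul]
      exact (Submodule.mem_bot _).1 (h ▸ Submodule.mem_top)
    exact one_ne_zero (coeff_inj hA hM hg h1)
  have hP : (⊥ : Ideal (𝒜.presheaf.obj (op M))).IsPrime := by
    refine (Ideal.IsHomogeneous.bot (𝒜.deg M hM)).isPrime_of_homogeneous_mem_or_mem hne ?_
    rintro a b ⟨i, ha⟩ ⟨k, hb⟩ hab
    obtain ⟨c, rfl⟩ := exists_coeff hA hM hg ha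
    obtain ⟨d, rfl⟩ := exists_coeff hA hM hg hb
    have h1 : sc 𝒜 M (c * d) * jel 𝒜 jL M g ^ (i + k) = sc 𝒜 M 0 * jel 𝒜 jL M g ^ (i + k) := by
      rw [map_zero, zero_mul, map_mul, pow_add]
      refine Eq.trans ?_ ((Submodule.mem_bot _).1 hab)
      ring
    rcases mul_eq_zero.1 (coeff_inj hA hM hg h1) with rfl | rfl
    · exact Or.inl (by simp)
    · exact Or.inr (by simp)
  have : Nontrivial (𝒜.presheaf.obj (op M)) := ⟨0, 1, fun e => hne ((Ideal.eq_top_iff_one _).2 (e ▸ Submodule.zero_mem _))⟩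
  refine @NoZeroDivisors.to_isDomain _ _ _ ⟨fun {a b} hab => ?_⟩
  exact (hP.mem_or_mem ((Submodule.mem_bot _).2 hab)).imp (Submodule.mem_bot _).1 (Submodule.mem_bot _).1

include hL hA in
theorem exists_piece [IsIntegral X] (x : X) :
    ∃ (M : X.Opens) (hM : IsAffineOpen M), x ∈ M ∧ IsIntegral (Spec (𝒜.presheaf.obj (op M))) := by
  obtain ⟨M, hM, g, hxM, -, hg⟩ := exists_triv (L := L) hL (x := x) (W := ⊤) trivial
  haveI : Nonempty (M : Scheme.{u}) := ⟨⟨x, hxM⟩⟩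
  haveI := isDomain_sections hA hM hg
  exact ⟨M, hM, hxM, inferInstance⟩

include hL hA in
/-- The line bundle over an integral scheme is integral. -/
theorem isIntegral_bundle [IsIntegral X] {j0 : X ⟶ 𝒜.toQCAlg.spec} (hj : j0 ≫ 𝒜.toQCAlg.π = 𝟙 X) :
    IsIntegral 𝒜.toQCAlg.spec := by
  choose M hM hxM hI using exists_piece hL hA
  have hmem : ∀ z : 𝒜.toQCAlg.spec, z ∈ (𝒜.toQCAlg.ι (M (𝒜.toQCAlg.π z)) (hM _)).opensRange := fun z => by
    rw [← 𝒜.toQCAlg.π_preimage]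
    exact hxM (𝒜.toQCAlg.π z)
  have hirr : ∀ z, IsPreirreducible ((𝒜.toQCAlg.ι (M (𝒜.toQCAlg.π z)) (hM _)).opensRange : Set 𝒜.toQCAlg.spec) := by
    intro z
    have := hI (𝒜.toQCAlg.π z)
    rw [Scheme.Hom.coe_opensRange, ← Set.image_univ]
    exact (IrreducibleSpace.isIrreducible_univ _).isPreirreducible.image _ (𝒜.toQCAlg.ι _ _).continuous.continuousOn
  haveI : PreirreducibleSpace 𝒜.toQCAlg.spec := by
    refine ⟨fun O₁ O₂ hO₁ hO₂ ⟨z₁, _, h₁⟩ ⟨z₂, _, h₂⟩ => ?_⟩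
    obtain ⟨x, hx₁, hx₂⟩ := nonempty_preirreducible_inter (M (𝒜.toQCAlg.π z₁)).isOpen (M (𝒜.toQCAlg.π z₂)).isOpen
      ⟨_, hxM _⟩ ⟨_, hxM _⟩
    have hj₁ : j0 x ∈ 𝒜.toQCAlg.π ⁻¹ᵁ M (𝒜.toQCAlg.π z₁) := by
      change (j0 ≫ 𝒜.toQCAlg.π) x ∈ M (𝒜.toQCAlg.π z₁)
      rw [hj]; exact hx₁
    have hj₂ : j0 x ∈ 𝒜.toQCAlg.π ⁻¹ᵁ M (𝒜.toQCAlg.π z₂) := by
      change (j0 ≫ 𝒜.toQCAlg.π) x ∈ M (𝒜.toQCAlg.π z₂)
      rw [hj]; exact hx₂
    rw [𝒜.toQCAlg.π_preimage _ (hM _)] at hj₁ hj₂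
    obtain ⟨w, hw₁, hwO₁, hw₂⟩ := hirr z₁ O₁ ((𝒜.toQCAlg.ι (M (𝒜.toQCAlg.π z₂)) (hM _)).opensRange)
      hO₁ (Opens.isOpen _) ⟨z₁, hmem z₁, h₁⟩ ⟨_, hj₁, hj₂⟩
    obtain ⟨v, -, hv⟩ := hirr z₂ O₁ O₂ hO₁ hO₂ ⟨w, hw₂, hwO₁⟩ ⟨z₂, hmem z₂, h₂⟩
    exact ⟨v, trivial, hv⟩
  haveI : Nonempty 𝒜.toQCAlg.spec := ⟨j0 (Classical.arbitrary X)⟩
  haveI : IrreducibleSpace 𝒜.toQCAlg.spec := ⟨inferInstance⟩
  haveI : IsReduced 𝒜.toQCAlg.spec := by
    haveI : ∀ z : 𝒜.toQCAlg.spec, _root_.IsReduced (𝒜.toQCAlg.spec.presheaf.stalk z) := fun z => by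
      obtain ⟨w, hw⟩ := hmem z
      have := hI (𝒜.toQCAlg.π z)
      have key : ∀ (W : Scheme.{u}) (i : W ⟶ 𝒜.toQCAlg.spec) [IsOpenImmersion i] [IsReduced W] (w : W) (z : 𝒜.toQCAlg.spec),
          i w = z → _root_.IsReduced (𝒜.toQCAlg.spec.presheaf.stalk z) := by
        rintro W i _ _ w _ rfl
        exact isReduced_of_injective (i.stalkMap w).hom (ConcreteCategory.bijective_of_isIso _).1
      exact key _ _ w z hw
    exact isReduced_of_isReduced_stalk _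
  exact isIntegral_of_irreducibleSpace_of_isReduced _

/-- An integral scheme surjecting with `q_* O = O` has integral target. -/
theorem isIntegral_of_pushIso {V C : Scheme.{u}} (q : V ⟶ C) [IsIntegral V] [Surjective q]
    (hq : Groth.AlgGrp1.PushIso q) : IsIntegral C := by
  haveI : IrreducibleSpace C :=
    (irreducibleSpace_def _).mpr (by
      have h := (IrreducibleSpace.isIrreducible_univ V).image q.base q.continuous.continuousOn
      rw [Set.image_univ, q.surjective.range_eq] at h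
      exact h)
  haveI : IsReduced C := ⟨fun U => ⟨fun s hs => by
    choose B _ hyB hBU hiso using fun y : U => hq U y.1 y.2
    refine TopCat.Sheaf.eq_of_locally_eq' C.sheaf B U (fun y => homOfLE (hBU y))
      (fun y hy => Opens.mem_iSup.2 ⟨⟨y, hy⟩, hyB ⟨y, hy⟩⟩) s 0 fun y => ?_
    have := hiso y
    refine (ConcreteCategory.bijective_of_isIso (q.app (B y))).1 ?_
    refine Eq.trans ?_ (((congrArg (q.app (B y)).hom (map_zero (C.presheaf.map (homOfLE (hBU y)).op).hom)).trans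
      (map_zero (q.app (B y)).hom)).symm)
    exact ((hs.map (C.presheaf.map (homOfLE (hBU y)).op).hom).map (q.app (B y)).hom).eq_zero⟩⟩
  exact isIntegral_of_irreducibleSpace_of_isReduced _

end Groth.Grauert.Integ
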