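/-
Integrality and normality of the cone of all functions on a line bundle (EGA II 8.8.6).
-/
import Groth.Agent.Grauert.Integral
import Groth.Agent.Variety2.Normal
import Groth.Agent.NeronArea.FiniteEtaleClosure
import Groth.Agent.SymAlg.Univ

set_option autoImplicit false
universe u
open CategoryTheory CategoryTheory.Limits AlgebraicGeometry Opposite TopologicalSpace

set_option backward.isDefEq.respectTransparency.types false

noncomputable section

namespace Groth.Grauert.NormalCone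

/-- A quasi-compact open of a locally integral normal scheme has normal ring of functions. -/
theorem isNormalRing_sections {V : Scheme.{u}} (hV : Pi1.IsNormalScheme V)
    (hloc : ∀ x : V, ∃ U : V.Opens, x ∈ U ∧ IsIntegral (U : Scheme.{u})) (W : V.Opens)
    (hW : IsCompact (W : Set V)) (hWs : IsQuasiSeparated (W : Set V)) : EGA4.IsNormalRing Γ(V, W) := by
  classical
  -- integral opens inside `W`
  have hloc' : ∀ x : W, ∃ U : V.Opens, x.1 ∈ U ∧ U ≤ W ∧ IsIntegral (U : Scheme.{u}) := fun x => by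
    obtain ⟨U, hxU, hU⟩ := hloc x.1
    haveI : Nonempty ((U ⊓ W : V.Opens) : Scheme.{u}) := ⟨⟨x.1, hxU, x.2⟩⟩
    exact ⟨U ⊓ W, ⟨hxU, x.2⟩, inf_le_right, isIntegral_of_isOpenImmersion (V.homOfLE inf_le_left)⟩
  choose U hxU hUW hU using hloc'
  let η : W → V := fun x => (U x).ι (genericPoint (U x : Scheme.{u}))
  have hη : ∀ x : W, η x ∈ U x := fun x => (genericPoint (U x : Scheme.{u})).2
  have hspec : ∀ (x : W) (v : V), v ∈ U x → η x ⤳ v := fun x v hv =>
    ((genericPoint_spec (U x : Scheme.{u})).specializes (Set.mem_univ (⟨v, hv⟩ : (U x : Scheme.{u})))).map (U x).ι.continuous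
  have hsame : ∀ (x y : W) (v : V), v ∈ U x → v ∈ U y → η x = η y := by
    intro x y v hvx hvy
    have h1 : η x ∈ U y := (hspec x v hvx).mem_open (U y).2 hvy
    have h2 : η y ∈ U x := (hspec y v hvy).mem_open (U x).2 hvx
    exact ((hspec x _ h2).antisymm (hspec y _ h1)).eq
  let O : W → V.Opens := fun x => ⨆ y : {y : W // η y = η x}, U y.1
  have hOW : ∀ x, O x ≤ W := fun x => iSup_le fun y => hUW y.1
  have hmemO : ∀ x : W, x.1 ∈ O x := fun x => Opens.mem_iSup.2 ⟨⟨x, rfl⟩, hxU x⟩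
  have hOspec : ∀ (x : W) (v : V), v ∈ O x → η x ⤳ v := by
    intro x v hv
    obtain ⟨⟨y, hy⟩, hvy⟩ := Opens.mem_iSup.1 hv
    exact hy ▸ hspec y v hvy
  have hclosed : ∀ (x : W) (y : W), y.1 ∉ O x → Disjoint (O y : Set V) (O x) := by
    intro x y hy
    refine Set.disjoint_left.2 fun v hvy hvx => hy ?_
    obtain ⟨⟨a, ha⟩, hva⟩ := Opens.mem_iSup.1 hvy
    obtain ⟨⟨b, hb⟩, hvb⟩ := Opens.mem_iSup.1 hvx
    exact Opens.mem_iSup.2 ⟨⟨y, (ha.symm.trans (hsame a b v hva hvb)).trans hb⟩, hxU y⟩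
  have hint : ∀ x, IsIntegral (O x : Scheme.{u}) := fun x => by
    haveI : Nonempty (O x : Scheme.{u}) := ⟨⟨x.1, hmemO x⟩⟩
    haveI : IrreducibleSpace (O x : Scheme.{u}) := by
      have hηO : η x ∈ O x := Opens.mem_iSup.2 ⟨⟨x, rfl⟩, hη x⟩
      refine (irreducibleSpace_def _).mpr ⟨⟨⟨x.1, hmemO x⟩, trivial⟩, fun A B hA hB ⟨a, _, ha⟩ ⟨b, _, hb⟩ => ?_⟩
      have hs : ∀ v : (O x : Scheme.{u}), (⟨η x, hηO⟩ : (O x : Scheme.{u})) ⤳ v := fun v =>
        (O x).ι.isOpenEmbedding.isInducing.specializes_iff.1 (hOspec x v.1 v.2)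
      exact ⟨⟨η x, hηO⟩, trivial, (hs a).mem_open hA ha, (hs b).mem_open hB hb⟩
    haveI : IsReduced (O x : Scheme.{u}) := by
      haveI : ∀ v : V, _root_.IsReduced (V.presheaf.stalk v) := fun v => by
        haveI := (hV v).1
        infer_instance
      haveI : IsReduced V := isReduced_of_isReduced_stalk V
      exact isReduced_of_isOpenImmersion (O x).ι
    exact isIntegral_of_irreducibleSpace_of_isReduced _
  -- idempotents
  have hclop : ∀ x : W, ∃ e : Γ(V, W), e * e = e ∧ V.basicOpen e = O x := by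
    intro x
    let D : V.Opens := ⨆ y : {y : W // y.1 ∉ O x}, O y.1
    have hdisj : D ⊓ O x = ⊥ := eq_bot_iff.2 fun v ⟨hvD, hvO⟩ => by
      obtain ⟨⟨y, hy⟩, hvy⟩ := Opens.mem_iSup.1 hvD
      exact Set.disjoint_left.1 (hclosed x y hy) hvy hvO
    have hcov : W ≤ ⨆ b : Bool, bif b then O x else D := fun v hv => by
      by_cases h : v ∈ O x
      · exact Opens.mem_iSup.2 ⟨true, h⟩
      · exact Opens.mem_iSup.2 ⟨false, Opens.mem_iSup.2 ⟨⟨⟨v, hv⟩, h⟩, hmemO ⟨v, hv⟩⟩⟩
    let T : Bool → V.Opens := fun b => bif b then O x else D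
    have hT : ∀ b, T b ≤ W := fun b => by
      cases b
      · exact iSup_le fun y => hOW y.1
      · exact hOW x
    let s : ∀ b, Γ(V, T b) := fun b => match b with
      | true => 1
      | false => 0
    have hcompat : TopCat.Presheaf.IsCompatible V.sheaf.1 T s := by
      intro i j
      cases i <;> cases j
      · rfl
      · have : Subsingleton Γ(V, D ⊓ O x) :=
          CommRingCat.subsingleton_of_isTerminal (V.sheaf.isTerminalOfEqEmpty hdisj)
        exact this.elim _ _
      · have : Subsingleton Γ(V, O x ⊓ D) :=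
          CommRingCat.subsingleton_of_isTerminal (V.sheaf.isTerminalOfEqEmpty ((inf_comm _ _).trans hdisj))
        exact this.elim _ _
      · rfl
    obtain ⟨e, he, -⟩ := V.sheaf.existsUnique_gluing' T W (fun b => homOfLE (hT b)) hcov s hcompat
    refine ⟨e, ?_, ?_⟩
    · refine V.sheaf.eq_of_locally_eq' T W (fun b => homOfLE (hT b)) hcov _ _ fun b => ?_
      change (V.presheaf.map (homOfLE (hT b)).op).hom (e * e) = (V.presheaf.map (homOfLE (hT b)).op).hom e
      refine (map_mul (V.presheaf.map (homOfLE (hT b)).op).hom e e).trans ?_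
      have hs : s b * s b = s b := by cases b <;> simp [s]
      exact ((congrArg₂ (· * ·) (he b) (he b)).trans hs).trans (he b).symm
    · have hb : ∀ b, T b ⊓ V.basicOpen e = V.basicOpen (s b) := fun b => by
        rw [← he b]
        exact (V.basicOpen_res e (homOfLE (hT b)).op).symm
      refine le_antisymm (fun v hv => ?_) fun v hv => ?_
      · obtain ⟨b, hvb⟩ := Opens.mem_iSup.1 (hcov (V.basicOpen_le e hv))
        cases b
        · have h1 : v ∈ V.basicOpen (s false) := (hb false).le ⟨hvb, hv⟩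
          rw [show V.basicOpen (s false) = ⊥ from V.basicOpen_zero _] at h1
          exact h1.elim
        · exact hvb
      · have h1 : v ∈ V.basicOpen (s true) := (V.basicOpen_of_isUnit (isUnit_one)).ge hv
        exact ((hb true).ge h1).2
  choose e he heO using hclop
  intro P _
  obtain ⟨x, hx⟩ : ∃ x : W, e x ∉ P := by
    obtain ⟨F, hF⟩ := hW.elim_finite_subcover (fun x : W => (O x : Set V)) (fun x => (O x).2)
      (fun v hv => Set.mem_iUnion.2 ⟨⟨v, hv⟩, hmemO ⟨v, hv⟩⟩)
    by_contra! hall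
    have h0 : ∏ x ∈ F, (1 - e x) = 0 := by
      refine V.sheaf.eq_of_locally_eq' (fun x : F => O x.1) W (fun x => homOfLE (hOW x.1))
        (fun v hv => by
          obtain ⟨y, hy, hvy⟩ := Set.mem_iUnion₂.1 (hF hv)
          exact Opens.mem_iSup.2 ⟨⟨y, hy⟩, hvy⟩) _ _ fun y => ?_
      change (V.presheaf.map (homOfLE (hOW y.1)).op).hom (∏ x ∈ F, (1 - e x)) =
        (V.presheaf.map (homOfLE (hOW y.1)).op).hom 0
      rw [map_prod, map_zero]
      refine Finset.prod_eq_zero y.2 ?_
      have hu : IsUnit ((V.presheaf.map (homOfLE (hOW y.1)).op).hom (e y.1)) := by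
        refine (V.toLocallyRingedSpace.toRingedSpace).isUnit_of_isUnit_germ _ _ fun v hv => ?_
        refine (RingedSpace.mem_basicOpen _ _ _ hv).1 ?_
        change v ∈ V.basicOpen (V.presheaf.map (homOfLE (hOW y.1)).op (e y.1))
        rw [V.basicOpen_res, heO]
        exact ⟨hv, hv⟩
      refine hu.mul_right_eq_zero.1 ?_
      rw [← map_mul, mul_sub, mul_one, he, sub_self, map_zero]
    obtain ⟨x, hxF, hxP⟩ := (Ideal.IsPrime.prod_mem_iff (p := P)).1 (h0 ▸ P.zero_mem)
    exact ‹P.IsPrime›.ne_top ((Ideal.eq_top_iff_one _).2 (sub_add_cancel 1 (e x) ▸ P.add_mem hxP (hall x)))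
  haveI := hint x
  have key : ∀ B : V.Opens, B = O x → B ≤ W → IsDomain Γ(V, B) ∧ IsIntegrallyClosed Γ(V, B) := by
    rintro B rfl -
    haveI : Nonempty ((⊤ : (O x : Scheme.{u}).Opens) : Scheme.{u}) := ⟨⟨⟨x.1, hmemO x⟩, trivial⟩⟩
    haveI : Nonempty (O x : Scheme.{u}) := ⟨⟨x.1, hmemO x⟩⟩
    have h1 : IsIntegrallyClosed Γ((O x : Scheme.{u}), ⊤) :=
      Groth.Variety2.isIntegrallyClosed_Γ (fun v => by
        haveI : IsIntegrallyClosed (V.presheaf.stalk ((O x).ι v)) := (hV _).2
        exact IsIntegrallyClosed.of_equiv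
          (asIso ((O x).ι.stalkMap v)).commRingCatIsoToRingEquiv) ⊤
    let iso := (O x).topIso.commRingCatIsoToRingEquiv
    exact ⟨iso.symm.toMulEquiv.isDomain_iff.mpr inferInstance, @IsIntegrallyClosed.of_equiv _ _ _ _ iso h1⟩
  obtain ⟨hd, hc⟩ := key (V.basicOpen (e x)) (heO x) (V.basicOpen_le _)
  letI := (V.presheaf.map (homOfLE (V.basicOpen_le (e x))).op).hom.toAlgebra
  haveI hloce : IsLocalization.Away (e x) Γ(V, V.basicOpen (e x)) := isLocalization_basicOpen_of_qcqs hW hWs (e x)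
  have hdj : Disjoint ((Submonoid.powers (e x) : Submonoid Γ(V, W)) : Set Γ(V, W)) (P : Set Γ(V, W)) :=
    Set.disjoint_left.2 fun a ⟨n, hn⟩ ha => hx (‹P.IsPrime›.mem_of_pow_mem n ((show e x ^ n = a from hn).symm ▸ ha))
  let Q := P.map (algebraMap Γ(V, W) Γ(V, V.basicOpen (e x)))
  haveI hQ : Q.IsPrime := IsLocalization.isPrime_of_isPrime_disjoint (Submonoid.powers (e x)) _ P ‹_› hdj
  have hPQ : Q.comap (algebraMap Γ(V, W) Γ(V, V.basicOpen (e x))) = P :=
    IsLocalization.comap_map_of_isPrime_disjoint (Submonoid.powers (e x)) _ ‹_› hdj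
  haveI hl : IsLocalization.AtPrime (Localization.AtPrime Q) (Q.comap (algebraMap Γ(V, W) _)) :=
    IsLocalization.isLocalization_isLocalization_atPrime_isLocalization (Submonoid.powers (e x)) _ Q
  have hl' : IsLocalization P.primeCompl (Localization.AtPrime Q) := by
    have : (Q.comap (algebraMap Γ(V, W) Γ(V, V.basicOpen (e x)))).primeCompl = P.primeCompl :=
      Submonoid.ext fun a => not_congr (SetLike.ext_iff.1 hPQ a)
    rw [← this]
    exact hl
  let eq : Localization.AtPrime P ≃+* Localization.AtPrime Q :=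
    (IsLocalization.algEquiv P.primeCompl (Localization.AtPrime P) (Localization.AtPrime Q)).toRingEquiv
  obtain ⟨h1, h2⟩ := Groth.NeronArea.isNormalRing_of_isIntegrallyClosed Γ(V, V.basicOpen (e x)) Q
  exact ⟨eq.toMulEquiv.isDomain_iff.mpr h1, @IsIntegrallyClosed.of_equiv _ _ _ _ eq.symm h2⟩

end Groth.Grauert.NormalCone
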