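/-
A line bundle over an integral or normal scheme is integral or normal.
-/
import Groth.Agent.Grauert.NormalCone

set_option autoImplicit false
universe u
open CategoryTheory CategoryTheory.Limits AlgebraicGeometry Opposite TopologicalSpace

set_option backward.isDefEq.respectTransparency.types false

noncomputable section

namespace Groth.Grauert.BundleNormal

open Groth.PicAux Groth.RLpsi Groth.RelTw

variable {X : Scheme.{u}} {L : X.Modules} [L.IsQuasicoherent] (hL : PicF.IsInvertible L)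
  {A : RelSpec.QCAlg X} {jL : L ⟶ A.toModule} (hA : RelSpec.IsSymAlg L A jL)

include hA in
/-- Over a trivialising affine the algebra is a polynomial algebra in one variable. -/
theorem exists_polynomial_equiv {M : X.Opens} (hM : IsAffineOpen M) {g : Γ(L, M)} (hg : Gen L M g) :
    ∃ e : Polynomial Γ(X, M) ≃+* A.presheaf.obj (op M),
      ∀ r, e (Polynomial.C r) = (A.str.app (op M)).hom r := by
  have hg' : Function.Bijective fun r : Γ(X, M) => r • g := by
    have h := hg M le_rfl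
    simp only [PicAux.res_self] at h
    exact h
  let el : Γ(X, M) ≃ₗ[Γ(X, M)] Γ(L, M) := LinearEquiv.ofBijective (LinearMap.toSpanSingleton _ _ g) hg'
  let b : Module.Basis PUnit.{u + 1} Γ(X, M) Γ(L, M) := (Module.Basis.singleton PUnit.{u + 1} Γ(X, M)).map el
  let e1 : Polynomial Γ(X, M) ≃ₐ[Γ(X, M)] SymmetricAlgebra Γ(X, M) Γ(L, M) :=
    (MvPolynomial.pUnitAlgEquiv Γ(X, M)).symm.trans (SymmetricAlgebra.equivMvPolynomial b).symm
  let e2 := RingEquiv.ofBijective (Groth.SymAlg.liftSec A jL M) (Groth.SymAlg.bijective_liftSec hA hM)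
  refine ⟨e1.toRingEquiv.trans e2, fun r => ?_⟩
  change Groth.SymAlg.liftSec A jL M (e1 (Polynomial.C r)) = _
  rw [Polynomial.C_eq_algebraMap, e1.commutes, Groth.SymAlg.liftSec_algebraMap]

include hA in
/-- The chart over a trivialising affine surjects to the base. -/
theorem range_chart {M : X.Opens} (hM : IsAffineOpen M) {g : Γ(L, M)} (hg : Gen L M g) :
    Set.range (A.ι M hM ≫ A.π).base = (M : Set X) := by
  obtain ⟨e, he⟩ := exists_polynomial_equiv hA hM hg
  let ev : A.presheaf.obj (op M) ⟶ Γ(X, M) :=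
    CommRingCat.ofHom ((Polynomial.evalRingHom (0 : Γ(X, M))).comp e.symm.toRingHom)
  have hev : A.str.app (op M) ≫ ev = 𝟙 _ := CommRingCat.hom_ext (RingHom.ext fun r => by
    change Polynomial.eval 0 (e.symm ((A.str.app (op M)).hom r)) = r
    rw [← he, e.symm_apply_apply, Polynomial.eval_C])
  rw [A.ι_π M hM]
  refine Set.Subset.antisymm ?_ ?_
  · rintro _ ⟨w, rfl⟩
    exact hM.range_fromSpec.le ⟨_, rfl⟩
  · intro x hx
    obtain ⟨w, rfl⟩ := hM.range_fromSpec.ge hx
    refine ⟨(Spec.map ev).base w, ?_⟩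
    change (Spec.map ev ≫ Spec.map (A.str.app (op M)) ≫ hM.fromSpec) w = _
    rw [← Spec.map_comp_assoc, hev, Spec.map_id, Category.id_comp]

include hA in
theorem isIntegral_chart {M : X.Opens} (hM : IsAffineOpen M) {g : Γ(L, M)} (hg : Gen L M g)
    [IsIntegral (M : Scheme.{u})] : IsIntegral (Spec (A.presheaf.obj (op M))) := by
  obtain ⟨e, -⟩ := exists_polynomial_equiv hA hM hg
  haveI : IsDomain Γ(X, M) := M.topIso.commRingCatIsoToRingEquiv.symm.toMulEquiv.isDomain_iff.mpr inferInstance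
  haveI : IsDomain (A.presheaf.obj (op M)) := e.symm.toMulEquiv.isDomain_iff.mpr inferInstance
  infer_instance

include hL hA in
/-- The line bundle over an integral scheme is integral. -/
theorem isIntegral_spec [IsIntegral X] : IsIntegral A.spec := by
  choose M hM g hxM hle hg using fun x : X => exists_triv (L := L) hL (x := x) (W := ⊤) trivial
  have hI : ∀ x, IsIntegral (Spec (A.presheaf.obj (op (M x)))) := fun x => by
    haveI : Nonempty (M x : Scheme.{u}) := ⟨⟨x, hxM x⟩⟩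
    haveI : IsIntegral (M x : Scheme.{u}) := isIntegral_of_isOpenImmersion (M x).ι
    exact isIntegral_chart hA (hM x) (hg x)
  have hmem : ∀ z : A.spec, z ∈ (A.ι (M (A.π z)) (hM _)).opensRange := fun z => by
    rw [← A.π_preimage]
    exact hxM (A.π z)
  have hirr : ∀ z, IsPreirreducible ((A.ι (M (A.π z)) (hM _)).opensRange : Set A.spec) := by
    intro z
    have := hI (A.π z)
    rw [Scheme.Hom.coe_opensRange, ← Set.image_univ]
    exact (IrreducibleSpace.isIrreducible_univ _).isPreirreducible.image _ (A.ι _ _).continuous.continuousOn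
  haveI : Nonempty A.spec := by
    obtain ⟨w, -⟩ := (range_chart hA (hM (Classical.arbitrary X)) (hg _)).ge (hxM _)
    exact ⟨A.ι _ (hM (Classical.arbitrary X)) w⟩
  haveI : PreirreducibleSpace A.spec := by
    refine ⟨fun O₁ O₂ hO₁ hO₂ ⟨z₁, _, h₁⟩ ⟨z₂, _, h₂⟩ => ?_⟩
    obtain ⟨x, hx₁, hx₂⟩ := nonempty_preirreducible_inter (M (A.π z₁)).isOpen (M (A.π z₂)).isOpen
      ⟨_, hxM _⟩ ⟨_, hxM _⟩
    obtain ⟨w, hw⟩ := (range_chart hA (hM (A.π z₁)) (hg _)).ge hx₁
    have hj₂ : (A.ι _ (hM (A.π z₁))) w ∈ (A.ι (M (A.π z₂)) (hM _)).opensRange := by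
      rw [← A.π_preimage _ (hM _)]
      change (A.ι _ (hM (A.π z₁)) ≫ A.π) w ∈ M (A.π z₂)
      rw [hw]; exact hx₂
    obtain ⟨a, ha₁, haO₁, ha₂⟩ := hirr z₁ O₁ ((A.ι (M (A.π z₂)) (hM _)).opensRange)
      hO₁ (Opens.isOpen _) ⟨z₁, hmem z₁, h₁⟩ ⟨_, ⟨w, rfl⟩, hj₂⟩
    obtain ⟨v, -, hv⟩ := hirr z₂ O₁ O₂ hO₁ hO₂ ⟨a, ha₂, haO₁⟩ ⟨z₂, hmem z₂, h₂⟩
    exact ⟨v, trivial, hv⟩
  haveI : IrreducibleSpace A.spec := ⟨inferInstance⟩
  haveI : IsReduced A.spec := by
    haveI : ∀ z : A.spec, _root_.IsReduced (A.spec.presheaf.stalk z) := fun z => by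
      obtain ⟨w, hw⟩ := hmem z
      have := hI (A.π z)
      have key : ∀ (W : Scheme.{u}) (i : W ⟶ A.spec) [IsOpenImmersion i] [IsReduced W] (w : W) (z : A.spec),
          i w = z → _root_.IsReduced (A.spec.presheaf.stalk z) := by
        rintro W i _ _ w _ rfl
        exact isReduced_of_injective (i.stalkMap w).hom (ConcreteCategory.bijective_of_isIso _).1
      exact key _ _ w z hw
    exact isReduced_of_isReduced_stalk _
  exact isIntegral_of_irreducibleSpace_of_isReduced _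

/-- A point with a normal open chart has normal local ring. -/
theorem normal_stalk_of_chart {Z W : Scheme.{u}} (i : W ⟶ Z) [IsOpenImmersion i] (hW : Pi1.IsNormalScheme W)
    (w : W) : IsDomain (Z.presheaf.stalk (i w)) ∧ IsIntegrallyClosed (Z.presheaf.stalk (i w)) := by
  obtain ⟨h1, h2⟩ := hW w
  let e := (asIso (i.stalkMap w)).commRingCatIsoToRingEquiv
  exact ⟨e.toMulEquiv.isDomain_iff.mpr h1, @IsIntegrallyClosed.of_equiv _ _ _ _ e.symm h2⟩

include hL hA in
/-- The line bundle over a locally integral normal scheme is locally integral and normal. -/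
theorem normal_spec (hloc : ∀ x : X, ∃ U : X.Opens, x ∈ U ∧ IsIntegral (U : Scheme.{u}))
    (hX : Pi1.IsNormalScheme X) : (∀ z : A.spec, ∃ U : A.spec.Opens, z ∈ U ∧ IsIntegral (U : Scheme.{u})) ∧
      Pi1.IsNormalScheme A.spec := by
  have key : ∀ z : A.spec, ∃ (M : X.Opens) (hM : IsAffineOpen M) (w : Spec (A.presheaf.obj (op M))),
      A.ι M hM w = z ∧ IsIntegral (Spec (A.presheaf.obj (op M))) ∧
        Pi1.IsNormalScheme (Spec (A.presheaf.obj (op M))) := by
    intro z
    obtain ⟨U, hzU, hU⟩ := hloc (A.π z)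
    obtain ⟨M, hM, g, hzM, hMU, hg⟩ := exists_triv (L := L) hL (x := A.π z) (W := U) hzU
    haveI : Nonempty (M : Scheme.{u}) := ⟨⟨_, hzM⟩⟩
    haveI : IsIntegral (M : Scheme.{u}) := isIntegral_of_isOpenImmersion (X.homOfLE hMU)
    obtain ⟨w, hw⟩ : z ∈ (A.ι M hM).opensRange := (A.π_preimage M hM).le hzM
    refine ⟨M, hM, w, hw, isIntegral_chart hA hM hg, ?_⟩
    obtain ⟨e, -⟩ := exists_polynomial_equiv hA hM hg
    haveI : Nonempty ((⊤ : (M : Scheme.{u}).Opens) : Scheme.{u}) := ⟨⟨⟨_, hzM⟩, trivial⟩⟩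
    have h1 : IsIntegrallyClosed Γ((M : Scheme.{u}), ⊤) :=
      Groth.Variety2.isIntegrallyClosed_Γ (fun v => by
        haveI : IsIntegrallyClosed (X.presheaf.stalk (M.ι v)) := (hX _).2
        exact IsIntegrallyClosed.of_equiv (asIso (M.ι.stalkMap v)).commRingCatIsoToRingEquiv) ⊤
    haveI : IsDomain Γ(X, M) := M.topIso.commRingCatIsoToRingEquiv.symm.toMulEquiv.isDomain_iff.mpr inferInstance
    haveI : IsIntegrallyClosed Γ(X, M) := @IsIntegrallyClosed.of_equiv _ _ _ _ M.topIso.commRingCatIsoToRingEquiv h1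
    haveI : IsDomain (A.presheaf.obj (op M)) := e.symm.toMulEquiv.isDomain_iff.mpr inferInstance
    haveI : IsIntegrallyClosed (A.presheaf.obj (op M)) := IsIntegrallyClosed.of_equiv e
    exact Groth.NeronArea.isNormalScheme_Spec
      (Groth.NeronArea.isNormalRing_of_isIntegrallyClosed (A.presheaf.obj (op M)))
  refine ⟨fun z => ?_, fun z => ?_⟩
  · obtain ⟨M, hM, w, hw, hI, -⟩ := key z
    refine ⟨(A.ι M hM).opensRange, ⟨w, hw⟩, ?_⟩
    haveI : Nonempty ((A.ι M hM).opensRange : Scheme.{u}) := ⟨⟨_, w, hw⟩⟩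
    exact isIntegral_of_isOpenImmersion (A.ι M hM).isoOpensRange.inv
  · obtain ⟨M, hM, w, rfl, -, hN⟩ := key z
    exact normal_stalk_of_chart _ hN w

end Groth.Grauert.BundleNormal
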