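/-
The spectrum of all functions on a line bundle over an integral scheme is integral (EGA II 8.8.6).
-/
import Groth.Agent.Grauert.BundleNormal

set_option autoImplicit false
universe u
open CategoryTheory CategoryTheory.Limits AlgebraicGeometry Opposite TopologicalSpace

set_option backward.isDefEq.respectTransparency.types false

noncomputable section

namespace Groth.Grauert.ConeInt

open Groth.Limits.RelSpecColimit

variable {V Y : Scheme.{u}} (ρ : V ⟶ Y) [QuasiCompact ρ] [QuasiSeparated ρ]

/-- The canonical map to the spectrum of the direct image. -/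
theorem exists_canonical : ∃ (q' : V ⟶ (RelSpec.QCAlg.directImage ρ).spec)
    (hq'π : q' ≫ (RelSpec.QCAlg.directImage ρ).π = ρ),
    AffAlg.algHom (RelSpec.QCAlg.directImage ρ).π ρ q' hq'π = (RelSpec.QCAlg.directImage ρ).gammaMap := by
  obtain ⟨q', hq'⟩ := exists_isLift ρ (𝟙 (RelSpec.QCAlg.directImage ρ))
  refine ⟨q', hq'.comp_π, ?_⟩
  apply (Functor.IsCoverDense.restrictHomEquivHom (G := Scheme.AffineZariskiSite.toOpensFunctor Y)
    (K := Opens.grothendieckTopology Y)
    (ℱ := (RelSpec.QCAlg.directImage ρ).π.base _* (RelSpec.QCAlg.directImage ρ).spec.presheaf)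
    (ℱ' := (⟨(RelSpec.QCAlg.directImage ρ).presheaf, (RelSpec.QCAlg.directImage ρ).isSheaf⟩ :
      TopCat.Sheaf CommRingCat.{u} Y.carrier))).symm.injective
  ext U : 2
  change (AffAlg.algHom (RelSpec.QCAlg.directImage ρ).π ρ q' hq'.comp_π).app (op U.unop.1) =
    (RelSpec.QCAlg.directImage ρ).gammaMap.app (op U.unop.1)
  rw [DirIm.algHom_app (RelSpec.QCAlg.directImage ρ).π ρ q' hq'.comp_π U.unop.1
    (DirIm.preimage_le_q' ρ hq'.comp_π U.unop.1)]
  refine CommRingCat.hom_ext (RingHom.ext fun b => ?_)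
  refine (Groth.Ega2Proj.QAff.lift_appLE hq' U.unop.2 _ b).trans ?_
  rw [(RelSpec.QCAlg.directImage ρ).gammaMap_app U.unop.1 U.unop.2]
  rfl

/-- The spectrum of the functions on an integral scheme is integral. -/
theorem isIntegral_spec [IsIntegral V] : IsIntegral (RelSpec.QCAlg.directImage ρ).spec := by
  obtain ⟨q', hq'π, hq'⟩ := exists_canonical ρ
  have hP := DirIm.pushIso ρ q' hq'π hq'
  let C := (RelSpec.QCAlg.directImage ρ).spec
  haveI : IrreducibleSpace C := (irreducibleSpace_def _).mpr (by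
    have h := ((IrreducibleSpace.isIrreducible_univ V).image q'.base q'.continuous.continuousOn).closure
    rw [Set.image_univ, hP.dense_range.closure_range] at h
    exact h)
  haveI : IsReduced C := ⟨fun U => ⟨fun s hs => by
    choose B _ hyB hBU hiso using fun y : U => hP U y.1 y.2
    refine TopCat.Sheaf.eq_of_locally_eq' C.sheaf B U (fun y => homOfLE (hBU y))
      (fun y hy => Opens.mem_iSup.2 ⟨⟨y, hy⟩, hyB ⟨y, hy⟩⟩) s 0 fun y => ?_
    have := hiso y
    refine (ConcreteCategory.bijective_of_isIso (q'.app (B y))).1 ?_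
    refine Eq.trans ?_ (((congrArg (q'.app (B y)).hom (map_zero (C.presheaf.map (homOfLE (hBU y)).op).hom)).trans
      (map_zero (q'.app (B y)).hom)).symm)
    exact ((hs.map (C.presheaf.map (homOfLE (hBU y)).op).hom).map (q'.app (B y)).hom).eq_zero⟩⟩
  exact isIntegral_of_irreducibleSpace_of_isReduced _

/-- The spectrum of the functions on a locally integral normal scheme is normal. -/
theorem isNormalScheme_spec (hV : Pi1.IsNormalScheme V)
    (hloc : ∀ x : V, ∃ U : V.Opens, x ∈ U ∧ IsIntegral (U : Scheme.{u})) :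
    Pi1.IsNormalScheme (RelSpec.QCAlg.directImage ρ).spec := by
  intro c
  let A := RelSpec.QCAlg.directImage ρ
  obtain ⟨U, hU, hcU, -⟩ := exists_isAffineOpen_mem_and_subset (x := A.π c) (U := (⊤ : Y.Opens)) trivial
  obtain ⟨w, rfl⟩ : c ∈ (A.ι U hU).opensRange := (A.π_preimage U hU).le hcU
  have h : EGA4.IsNormalRing Γ(V, ρ ⁻¹ᵁ U) := NormalCone.isNormalRing_sections hV hloc _
    (ρ.isCompact_preimage hU.isCompact) (ρ.isQuasiSeparated_preimage hU.isQuasiSeparated)
  exact BundleNormal.normal_stalk_of_chart (A.ι U hU) (Groth.NeronArea.isNormalScheme_Spec h) w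

end Groth.Grauert.ConeInt
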