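/-
A contraction factor is universally closed, surjective and radicial (EGA II 8.9.7).
-/
import Groth.Agent.Grauert.DirectImage

set_option autoImplicit false
universe u
open CategoryTheory CategoryTheory.Limits AlgebraicGeometry Opposite TopologicalSpace

set_option backward.isDefEq.respectTransparency.types false

noncomputable section

namespace Groth.Grauert.Radicial

/-- A section induces isomorphisms of residue fields. -/
theorem bijective_residueFieldMap_of_section {Y C : Scheme.{u}} (v : Y ⟶ C) (g : C ⟶ Y) (h : v ≫ g = 𝟙 Y) (y : Y) :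
    Function.Bijective (v.residueFieldMap y).hom := by
  refine ⟨RingHom.injective _, ?_⟩
  have hi : IsIso (g.residueFieldMap (v y) ≫ v.residueFieldMap y) := by
    rw [← Scheme.residueFieldMap_comp, Scheme.Hom.residueFieldMap_congr h y, Scheme.residueFieldMap_id]
    exact @IsIso.comp_isIso _ _ _ _ _ _ _ (Iso.isIso_hom _) (IsIso.id _)
  exact Function.Surjective.of_comp
    (f := (v.residueFieldMap y).hom) (g := (g.residueFieldMap (v y)).hom)
    (ConcreteCategory.bijective_of_isIso (g.residueFieldMap (v y) ≫ v.residueFieldMap y)).2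

theorem bijective_left_of_comp {A B C : Scheme.{u}} (f : A ⟶ B) (g : B ⟶ C) (a : A)
    (h : Function.Bijective ((f ≫ g).residueFieldMap a).hom) (hf : Function.Bijective (f.residueFieldMap a).hom) :
    Function.Bijective (g.residueFieldMap (f a)).hom := by
  rw [Scheme.residueFieldMap_comp] at h
  exact (Function.Bijective.of_comp_iff' hf _).1 h

theorem isPurelyInseparable_of_bijective {K L : Type u} [Field K] [Field L] (f : K →+* L) (h : Function.Bijective f) :
    f.IsPurelyInseparable := by
  algebraize [f]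
  refine isPurelyInseparable_iff.2 fun x => ?_
  obtain ⟨y, rfl⟩ := h.2 x
  exact ⟨isIntegral_algebraMap (R := K) (A := L) (x := y), fun _ => ⟨y, rfl⟩⟩

/-- Gluing a universally injective map from a section and an open immersion. -/
theorem universallyInjective_of_section {Y C C' : Scheme.{u}} (u : C' ⟶ C) (v : Y ⟶ C') (ε : Y ⟶ C)
    (g : C ⟶ Y) (g' : C' ⟶ Y) (hv : v ≫ g' = 𝟙 Y) (hε : ε ≫ g = 𝟙 Y) (hvu : v ≫ u = ε) (W : C'.Opens)
    (hW : (W : Set C') = (Set.range v.base)ᶜ) [IsOpenImmersion (W.ι ≫ u)]
    (hr : Set.range (W.ι ≫ u).base ⊆ (Set.range ε.base)ᶜ) : UniversallyInjective u := by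
  refine ((tfae_universallyInjective u).out 0 2 rfl rfl).2 ⟨?_, fun c => ?_⟩
  · have hcase : ∀ c : C', c ∈ W ∨ ∃ y, v y = c := fun c => (em (c ∈ W)).imp id fun h => by
      have h' : c ∉ (W : Set C') := h
      rw [hW] at h'
      exact not_not.1 h'
    intro c d h
    rcases hcase c with hc | ⟨y, rfl⟩ <;> rcases hcase d with hd | ⟨y', rfl⟩
    · exact congrArg Subtype.val ((W.ι ≫ u).isOpenEmbedding.injective (a₁ := (⟨c, hc⟩ : (W : Scheme.{u}))) (a₂ := ⟨d, hd⟩) h)
    · exact absurd ⟨y', (congr($(hvu).base y')).symm.trans h.symm⟩ (hr ⟨⟨c, hc⟩, rfl⟩)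
    · exact absurd ⟨y, (congr($(hvu).base y)).symm.trans h⟩ (hr ⟨⟨d, hd⟩, rfl⟩)
    · have h1 : ε y = ε y' := (congr($(hvu).base y)).symm.trans (h.trans (congr($(hvu).base y')))
      have h2 : y = y' := (congr($(hε).base y)).symm.trans ((congrArg g.base h1).trans (congr($(hε).base y')))
      rw [h2]
  refine isPurelyInseparable_of_bijective _ ?_
  by_cases hc : c ∈ W
  · exact bijective_left_of_comp W.ι u (⟨c, hc⟩ : (W : Scheme.{u})) (ConcreteCategory.bijective_of_isIso _)
      (ConcreteCategory.bijective_of_isIso _)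
  · have h' : c ∉ (W : Set C') := hc
    rw [hW] at h'
    obtain ⟨y, rfl⟩ := not_not.1 h'
    refine bijective_left_of_comp v u y ?_ (bijective_residueFieldMap_of_section v g' hv y)
    subst hvu
    exact bijective_residueFieldMap_of_section _ g hε y

end Groth.Grauert.Radicial
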